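import Groth.Agent.Frg7.Sat
import Groth.Agent.S11546
import Groth.Agent.Adic7.Basic

/-!
# Artin-Rees, completeness and coherence over algebras topologically of finite type
-/

universe u

noncomputable section

namespace Groth.Agent.Frg7

open AdicRing IsLocalRing TensorProduct

variable {R : Type u} [CommRing R] {I : Ideal R}

theorem IsBase.fg (hR : IsBase R I) : I.FG := by
  obtain ⟨-, ⟨hN, -⟩ | ⟨-, -, -, t, -, rfl⟩⟩ := hR
  · exact IsNoetherian.noetherian _
  · exact ⟨{t}, by simp⟩

theorem IsBase.noPowTorsion (hR : IsBase R I) : NoPowTorsion I R := by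
  obtain ⟨-, ⟨-, h⟩ | ⟨hD, -, -, t, ht, rfl⟩⟩ := hR
  · exact h
  · intro x k hx
    have := hx (t ^ k) (Ideal.pow_mem_pow (Ideal.mem_span_singleton_self t) k)
    rw [smul_eq_mul, mul_eq_zero] at this
    exact this.resolve_left (pow_ne_zero k ht)

theorem noPowTorsion_of_flat (hR : IsBase R I) (M : Type u) [AddCommGroup M] [Module R M] [Module.Flat R M] :
    NoPowTorsion I M := by
  classical
  intro x k hx
  obtain ⟨S, hS⟩ := (IsBase.fg hR).pow (n := k)
  let f : R →ₗ[R] (S → R) := LinearMap.pi fun a => LinearMap.mulLeft R (a : R)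
  have hf : Function.Injective f := fun r r' h => by
    refine sub_eq_zero.mp (IsBase.noPowTorsion hR _ k fun a ha => ?_)
    rw [← hS] at ha
    induction ha using Submodule.span_induction with
    | mem a ha =>
      have : a * r = a * r' := congrFun h ⟨a, ha⟩
      rw [smul_eq_mul, mul_sub, this, sub_self]
    | zero => exact zero_smul _ _
    | add a b _ _ ha hb => rw [add_smul, ha, hb, add_zero]
    | smul c a _ ha => rw [smul_assoc, ha, smul_zero]
  have hinj := Module.Flat.rTensor_preserves_injective_linearMap (M := M) f hf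
  have hf1 : f 1 = ∑ a : S, (a : R) • (Pi.single a (1 : R) : S → R) := by
    funext b
    simp [f, Pi.single_apply, Finset.sum_apply]
  have h0 : f.rTensor M (1 ⊗ₜ[R] x) = 0 := by
    rw [LinearMap.rTensor_tmul, hf1, TensorProduct.sum_tmul]
    refine Finset.sum_eq_zero fun a _ => ?_
    rw [TensorProduct.smul_tmul, hx a (hS ▸ Submodule.subset_span a.2), TensorProduct.tmul_zero]
  have := hinj (h0.trans (map_zero _).symm)
  simpa using congrArg (TensorProduct.lid R M) this

theorem mem_span_singleton_smul' {M : Type u} [AddCommGroup M] [Module R M] {t : R} {N : Submodule R M} {x : M}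
    (h : x ∈ Ideal.span {t} • N) : ∃ y ∈ N, t • y = x := by
  induction h using Submodule.smul_induction_on' with
  | smul a ha y hy =>
    obtain ⟨b, rfl⟩ := Ideal.mem_span_singleton'.mp ha
    exact ⟨b • y, N.smul_mem _ hy, by rw [smul_smul, mul_comm]⟩
  | add x _ y _ hx hy =>
    obtain ⟨x', hx', rfl⟩ := hx
    obtain ⟨y', hy', rfl⟩ := hy
    exact ⟨x' + y', N.add_mem hx' hy', smul_add _ _ _⟩

variable {C : Type u} [CommRing C] [Algebra R C] {M : Type u} [AddCommGroup M] [Module C M] [Module R M]
  [IsScalarTower R C M]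

variable (I) in
/-- The saturation of a submodule. -/
def satClosure (N : Submodule C M) : Submodule C M where
  carrier := {x | ∃ k, ∀ a ∈ I ^ k, a • x ∈ N}
  add_mem' := by
    rintro x y ⟨k, hk⟩ ⟨l, hl⟩
    exact ⟨max k l, fun a ha => by
      rw [smul_add]
      exact N.add_mem (hk a (Ideal.pow_le_pow_right (le_max_left k l) ha))
        (hl a (Ideal.pow_le_pow_right (le_max_right k l) ha))⟩
  zero_mem' := ⟨0, fun a _ => by rw [smul_zero]; exact N.zero_mem⟩
  smul_mem' := by
    rintro c x ⟨k, hk⟩
    exact ⟨k, fun a ha => by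
      rw [← algebraMap_smul C a (c • x), smul_comm, algebraMap_smul]
      exact N.smul_mem c (hk a ha)⟩

theorem le_satClosure (N : Submodule C M) : N ≤ satClosure I N := fun x hx =>
  ⟨0, fun a _ => by rw [← algebraMap_smul C a x]; exact N.smul_mem _ hx⟩

theorem mem_satClosure {N : Submodule C M} {x : M} : x ∈ satClosure I N ↔ ∃ k, ∀ a ∈ I ^ k, a • x ∈ N := Iff.rfl

theorem isSat_satClosure (hI : I.FG) (N : Submodule C M) : IsSat I (satClosure I N) := by
  classical
  intro x j hx
  obtain ⟨S, hS⟩ := hI.pow (n := j)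
  choose k hk using fun a : S => (hx a (hS ▸ Submodule.subset_span a.2) : ∃ k, ∀ b ∈ I ^ k, b • (a : R) • x ∈ N)
  refine ⟨Finset.univ.sup k + j, fun a ha => ?_⟩
  rw [pow_add] at ha
  induction ha using Submodule.mul_induction_on' with
  | mem_mul_mem b hb c hc =>
    rw [← hS] at hc
    induction hc using Submodule.span_induction with
    | mem c hc =>
      rw [mul_smul]
      exact hk ⟨c, hc⟩ b (Ideal.pow_le_pow_right (Finset.le_sup (Finset.mem_univ _)) hb)
    | zero => rw [mul_zero, zero_smul]; exact N.zero_mem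
    | add c d _ _ hc hd => rw [mul_add, add_smul]; exact N.add_mem hc hd
    | smul r c _ hc =>
      rw [smul_eq_mul, mul_left_comm, mul_smul, ← algebraMap_smul C r]
      exact N.smul_mem _ hc
  | add a _ b _ ha hb => rw [add_smul]; exact N.add_mem ha hb

theorem SatFG.exists_pow_smul_satClosure_le (h : SatFG I C) (hI : I.FG) [Module.Finite C M] (N : Submodule C M) :
    ∃ n₀, ∀ a ∈ I ^ n₀, ∀ x ∈ satClosure I N, a • x ∈ N := by
  classical
  obtain ⟨S, hS⟩ := h.fg (satClosure I N) (isSat_satClosure hI N)
  choose k hk using fun x : S => (hS ▸ Submodule.subset_span x.2 : (x : M) ∈ satClosure I N)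
  refine ⟨Finset.univ.sup k, fun a ha x hx => ?_⟩
  rw [← hS] at hx
  induction hx using Submodule.span_induction with
  | mem x hx => exact hk ⟨x, hx⟩ a (Ideal.pow_le_pow_right (Finset.le_sup (Finset.mem_univ _)) ha)
  | zero => rw [smul_zero]; exact N.zero_mem
  | add x y _ _ hx hy => rw [smul_add]; exact N.add_mem hx hy
  | smul c x _ hx =>
    rw [← algebraMap_smul C a (c • x), smul_comm, algebraMap_smul]
    exact N.smul_mem c hx

variable (I) in
/-- The two classes of algebras admitting Artin-Rees bounds. -/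
def Nice (C : Type u) [CommRing C] [Algebra R C] : Prop :=
  SatFG I C ∧ (IsNoetherianRing C ∨ ∃ t : R, I = Ideal.span {t})

/-- The Artin-Rees property. -/
theorem Nice.artinRees (h : Nice I C) [Module.Finite C M] (N : Submodule C M) :
    ∃ n₀ : ℕ, ∀ m : ℕ,
      (I ^ (m + n₀) • (⊤ : Submodule R M)) ⊓ N.restrictScalars R ≤ I ^ m • N.restrictScalars R := by
  obtain ⟨hsat, hN | ⟨t, rfl⟩⟩ := h
  · obtain ⟨k, hk⟩ := Ideal.exists_pow_inf_eq_pow_smul (I.map (algebraMap R C)) N
    refine ⟨k, fun m => ?_⟩
    rintro x ⟨hx1, hx2⟩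
    have h1 : x ∈ (I.map (algebraMap R C)) ^ (m + k) • (⊤ : Submodule C M) ⊓ N := by
      refine ⟨?_, hx2⟩
      show x ∈ ((I.map (algebraMap R C)) ^ (m + k) • (⊤ : Submodule C M)).restrictScalars R
      rw [← Ideal.map_pow, Ideal.smul_restrictScalars]
      exact hx1
    rw [hk (m + k) (Nat.le_add_left k m), Nat.add_sub_cancel] at h1
    rw [← Ideal.smul_restrictScalars, Ideal.map_pow, Submodule.restrictScalars_mem]
    have h2 : (I.map (algebraMap R C)) ^ m • ((I.map (algebraMap R C)) ^ k • (⊤ : Submodule C M) ⊓ N) ≤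
        (I.map (algebraMap R C)) ^ m • N :=
      Submodule.smul_mono (le_refl ((I.map (algebraMap R C)) ^ m)) (inf_le_right (a := (I.map (algebraMap R C)) ^ k • (⊤ : Submodule C M)))
    exact h2 h1
  · obtain ⟨n₀, hn₀⟩ := hsat.exists_pow_smul_satClosure_le (Submodule.fg_span_singleton t) N
    refine ⟨n₀, fun m x hx => ?_⟩
    obtain ⟨hx1, hx2⟩ := hx
    rw [Ideal.span_singleton_pow] at hx1
    obtain ⟨y, -, rfl⟩ := mem_span_singleton_smul' hx1
    have hy : y ∈ satClosure (Ideal.span {t}) N := ⟨m + n₀, fun a ha => by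
      rw [Ideal.span_singleton_pow, Ideal.mem_span_singleton'] at ha
      obtain ⟨b, rfl⟩ := ha
      rw [mul_smul, ← algebraMap_smul C b]
      exact N.smul_mem _ hx2⟩
    rw [pow_add, mul_smul]
    exact Submodule.smul_mem_smul (Ideal.pow_mem_pow (Ideal.mem_span_singleton_self t) m)
      (hn₀ _ (Ideal.pow_mem_pow (Ideal.mem_span_singleton_self t) n₀) y hy)

theorem Nice.isHausdorff (h : Nice I C) (hJ : I.map (algebraMap R C) ≤ Ideal.jacobson ⊥) [Module.Finite C M] :
    IsHausdorff I M := by
  refine ⟨fun x hx => ?_⟩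
  obtain ⟨n₀, hn₀⟩ := h.artinRees (C ∙ x)
  have h1 := hx (1 + n₀)
  rw [SModEq.zero] at h1
  have h2 := hn₀ 1 ⟨h1, Submodule.mem_span_singleton_self x⟩
  rw [pow_one, ← Ideal.smul_restrictScalars, Submodule.restrictScalars_mem, Submodule.mem_smul_span_singleton] at h2
  obtain ⟨a, ha, hax⟩ := h2
  have hu : IsUnit (1 - a) := by
    have := Ideal.mem_jacobson_bot.mp (hJ ha) (-1)
    rwa [mul_neg_one, neg_add_eq_sub] at this
  have h3 : (1 - a) • x = 0 := by rw [sub_smul, one_smul, hax, sub_self]
  exact (hu.smul_eq_zero).mp h3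

/-- Finite modules without torsion are finitely presented. -/
theorem SatFG.finitePresentation (h : SatFG I C) [Module.Finite C M] (hM : NoPowTorsion I M) :
    Module.FinitePresentation C M := by
  obtain ⟨s, π, hπ⟩ := Module.Finite.exists_fin' C M
  refine Module.finitePresentation_of_free_of_surjective π hπ (h s _ fun x k hx => ?_)
  rw [LinearMap.mem_ker]
  refine hM _ k fun a ha => ?_
  rw [← π.map_smul_of_tower]
  exact hx a ha

section Algebras

variable (hR : IsBase R I) {A : Type u} [CommRing A] [Algebra R A] (hA : TopFiniteType R I A)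

include hR in
theorem complete_rPow (n : ℕ) : IsAdicComplete (I.map (algebraMap R (RPow R I n))) (RPow R I n) := by
  have h := Adic7.isAdicComplete_completion _ ((IsBase.fg hR).map (MvPolynomial.C : R →+* MvPolynomial (Fin n) R))
  rwa [Ideal.map_map] at h

include hR hA in
theorem nice_of_finiteType (C : Type u) [CommRing C] [Algebra R C] [Algebra A C] [IsScalarTower R A C]
    [Algebra.FiniteType A C] : Nice I C := by
  refine ⟨(good_of_topFiniteType hR hA).satFG_of_finiteType C, ?_⟩
  obtain ⟨n, φ, hφ⟩ := hA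
  obtain ⟨-, ⟨hN, -⟩ | ⟨-, -, -, t, -, h⟩⟩ := hR
  · left
    haveI : IsNoetherianRing (RPow R I n) := S0543.result _ _
    haveI : IsNoetherianRing A := isNoetherianRing_of_surjective _ _ φ.toRingHom hφ
    exact Algebra.FiniteType.isNoetherianRing A C
  · exact Or.inr ⟨t, h⟩

include hR hA in
theorem nice : Nice I A := nice_of_finiteType hR hA A

include hR in
theorem nice_rPow (n : ℕ) : Nice I (RPow R I n) :=
  nice hR ⟨n, AlgHom.id R _, Function.surjective_id⟩

include hR hA in
/-- Finite modules over algebras topologically of finite type are complete. -/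
theorem isAdicComplete (M : Type u) [AddCommGroup M] [Module A M] [Module R M] [IsScalarTower R A M]
    [Module.Finite A M] : IsAdicComplete I M := by
  obtain ⟨n, φ, hφ⟩ := hA
  algebraize [φ.toRingHom]
  haveI : IsScalarTower R (RPow R I n) A := IsScalarTower.of_algebraMap_eq fun r => (φ.commutes r).symm
  haveI : Module.Finite (RPow R I n) A := Module.Finite.of_surjective (Algebra.linearMap _ A) hφ
  letI : Module (RPow R I n) M := Module.compHom M φ.toRingHom
  haveI : IsScalarTower (RPow R I n) A M := IsScalarTower.of_algebraMap_smul fun _ _ => rfl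
  haveI : IsScalarTower R (RPow R I n) M := IsScalarTower.of_algebraMap_smul fun r x => by
    rw [← algebraMap_smul A (algebraMap R (RPow R I n) r) x, ← IsScalarTower.algebraMap_apply, algebraMap_smul]
  haveI : Module.Finite (RPow R I n) M := Module.Finite.trans A M
  haveI := complete_rPow hR n
  haveI : IsHausdorff I M := (nice_rPow hR n).isHausdorff (IsAdicComplete.le_jacobson_bot _)
  haveI : IsPrecomplete (I.map (algebraMap R (RPow R I n))) M := Adic7.isPrecomplete_of_finite _ M
  haveI : IsPrecomplete I M := IsPrecomplete.map_algebraMap_iff.mp ‹_›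
  exact {}

include hR hA in
theorem le_jacobson : I.map (algebraMap R A) ≤ Ideal.jacobson ⊥ := by
  haveI : IsAdicComplete (I.map (algebraMap R A)) A :=
    (IsAdicComplete.map_algebraMap_iff I A).mpr (isAdicComplete hR hA A)
  exact IsAdicComplete.le_jacobson_bot _

end Algebras

end Groth.Agent.Frg7
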