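import Groth.Agent.Frg7.Basic

/-!
# Coherence
-/

universe u

noncomputable section

namespace Groth.Agent.Frg7

open AdicRing

/-- A module finitely presented over a ring is finitely presented over a quotient acting on it. -/
theorem finitePresentation_of_quotient {B A : Type u} [CommRing B] [CommRing A] [Algebra B A]
    (hsurj : Function.Surjective (algebraMap B A)) (J : Type u) [AddCommGroup J] [Module A J] [Module B J]
    [IsScalarTower B A J] [Module.FinitePresentation B J] : Module.FinitePresentation A J := by
  haveI : Module.Finite A J := Module.Finite.of_restrictScalars_finite B A J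
  obtain ⟨s, π, hπ⟩ := Module.Finite.exists_fin' A J
  refine Module.finitePresentation_of_free_of_surjective π hπ ?_
  haveI : Module.Finite B A := Module.Finite.of_surjective (Algebra.linearMap B A) hsurj
  have hfg := Module.FinitePresentation.fg_ker (π.restrictScalars B) hπ
  rw [LinearMap.ker_restrictScalars] at hfg
  exact Submodule.FG.of_restrictScalars B hfg

variable {R : Type u} [CommRing R] {I : Ideal R}

/-- Finitely generated ideals are finitely presented. -/
theorem finitePresentation_ideal (hR : IsBase R I) {A : Type u} [CommRing A] [Algebra R A]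
    (hA : TopFinitePresentation R I A) (J : Ideal A) (hJ : J.FG) : Module.FinitePresentation A J := by
  obtain ⟨n, φ, hφ, hK⟩ := hA
  algebraize [φ.toRingHom]
  haveI : IsScalarTower R (RPow R I n) A := IsScalarTower.of_algebraMap_eq fun r => (φ.commutes r).symm
  have hsurj : Function.Surjective (algebraMap (RPow R I n) A) := hφ
  haveI : Module.Finite (RPow R I n) A := Module.Finite.of_surjective (Algebra.linearMap _ A) hsurj
  haveI : Module.Finite A J := Module.Finite.iff_fg.mpr hJ
  haveI : Module.Finite (RPow R I n) J := Module.Finite.trans A J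
  let J' : Ideal (RPow R I n) := J.comap (algebraMap (RPow R I n) A)
  have hker : J' ⊓ (Algebra.linearMap (RPow R I n) A).ker = RingHom.ker (algebraMap (RPow R I n) A) := by
    ext x
    simp only [J', Submodule.mem_inf, LinearMap.mem_ker, Algebra.linearMap_apply, RingHom.mem_ker, Ideal.mem_comap]
    exact ⟨fun h => h.2, fun h => ⟨h ▸ J.zero_mem, h⟩⟩
  have hmap : Submodule.map (Algebra.linearMap (RPow R I n) A) J' = J.restrictScalars (RPow R I n) := by
    ext x
    simp only [J', Submodule.mem_map, Ideal.mem_comap, Algebra.linearMap_apply, Submodule.restrictScalars_mem]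
    exact ⟨fun ⟨y, hy, e⟩ => e ▸ hy, fun h => by obtain ⟨y, rfl⟩ := hsurj x; exact ⟨y, h, rfl⟩⟩
  have hJ' : J'.FG := by
    refine Submodule.fg_of_fg_map_of_fg_inf_ker (Algebra.linearMap (RPow R I n) A) ?_ (by rw [hker]; exact hK)
    rw [hmap]
    exact Module.Finite.iff_fg.mp (inferInstanceAs (Module.Finite (RPow R I n) J))
  haveI : Module.Finite (RPow R I n) J' := Module.Finite.iff_fg.mpr hJ'
  haveI : Module.Flat R (RPow R I n) := S11546.result R I hR n
  have htf : NoPowTorsion I J' := fun x k hx => Subtype.ext (noPowTorsion_of_flat hR (RPow R I n) x.1 k fun a ha => by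
    simpa using congrArg Subtype.val (hx a ha))
  haveI := (nice_rPow hR n).1.finitePresentation htf
  let π : J' →ₗ[RPow R I n] J :=
    { toFun := fun x => ⟨algebraMap (RPow R I n) A x.1, x.2⟩
      map_add' := fun a b => Subtype.ext (map_add _ _ _)
      map_smul' := fun c x => Subtype.ext (by
        show algebraMap (RPow R I n) A (c * x.1) = c • algebraMap (RPow R I n) A x.1
        rw [map_mul, Algebra.smul_def]) }
  have hπ : Function.Surjective π := fun y => by
    obtain ⟨x, hx⟩ := hsurj y.1
    exact ⟨⟨x, show algebraMap _ _ x ∈ J by rw [hx]; exact y.2⟩, Subtype.ext hx⟩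
  have hkerπ : (LinearMap.ker π).FG := by
    apply Submodule.fg_of_fg_map_injective J'.subtype J'.injective_subtype
    rw [show Submodule.map J'.subtype (LinearMap.ker π) = RingHom.ker (algebraMap (RPow R I n) A) from ?_]
    · exact hK
    ext x
    simp only [Submodule.mem_map, LinearMap.mem_ker, Submodule.subtype_apply]
    exact ⟨fun ⟨y, hy, e⟩ => e ▸ congrArg Subtype.val hy,
      fun h => ⟨⟨x, show algebraMap _ _ x ∈ J by rw [show algebraMap _ A x = 0 from h]; exact J.zero_mem⟩, Subtype.ext h, rfl⟩⟩
  haveI : Module.FinitePresentation (RPow R I n) J := Module.finitePresentation_of_surjective π hπ hkerπ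
  exact finitePresentation_of_quotient hsurj J

end Groth.Agent.Frg7
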