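import Groth.Agent.Frg7.Basic

/-!
# Completions of algebras of finite type over algebras topologically of finite type
-/

universe u

noncomputable section

namespace Groth.Agent.Frg7

open TensorProduct AdicCompletion

variable {C : Type u} [CommRing C] (J : Ideal C)

/-- Artin-Rees bounds for all submodules of finite modules. -/
def HasAR : Prop := ∀ (M : Type u) [AddCommGroup M] [Module C M] [Module.Finite C M] (N : Submodule C M),
  ∃ k, ∀ n, J ^ (n + k) • (⊤ : Submodule C M) ⊓ N ≤ J ^ n • N

variable {J} {M N P : Type u} [AddCommGroup M] [Module C M] [AddCommGroup N] [Module C N] [AddCommGroup P] [Module C P]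

theorem map_smul_top (f : M →ₗ[C] N) (n : ℕ) :
    J ^ n • LinearMap.range f = Submodule.map f (J ^ n • ⊤) := by
  rw [Submodule.map_smul'', Submodule.map_top]

theorem map_injective_of_hasAR (hAR : HasAR J) [Module.Finite C N] {f : M →ₗ[C] N} (hf : Function.Injective f) :
    Function.Injective (AdicCompletion.map J f) := by
  obtain ⟨k, hk⟩ := hAR N (LinearMap.range f)
  rw [← LinearMap.ker_eq_bot, LinearMap.ker_eq_bot']
  intro x
  induction x using AdicCompletion.induction_on with
  | _ a =>
    intro hx
    refine AdicCompletion.mk_zero_of _ _ _ ⟨0, fun n _ => ⟨n + k, Nat.le_add_right n k, n, le_rfl, ?_⟩⟩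
    have h1 := hk n ⟨by simpa using congrArg (fun x => x.val (n + k)) hx, LinearMap.mem_range_self f (a (n + k))⟩
    rw [map_smul_top, Submodule.mem_map] at h1
    obtain ⟨y, hy, hy'⟩ := h1
    rwa [← hf hy']

theorem map_exact_of_hasAR (hAR : HasAR J) [Module.Finite C N] {f : M →ₗ[C] N} {g : N →ₗ[C] P}
    (hfg : Function.Exact f g) (hg : Function.Surjective g) :
    Function.Exact (AdicCompletion.map J f) (AdicCompletion.map J g) := by
  refine LinearMap.exact_of_comp_eq_zero_of_ker_le_range ?_ (fun y => ?_)
  · rw [AdicCompletion.map_comp, hfg.linearMap_comp_eq_zero, AdicCompletion.map_zero]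
  induction y using AdicCompletion.induction_on with
  | _ b =>
    intro hz
    obtain ⟨k, hk⟩ := hAR N (LinearMap.range f)
    have hdec : ∀ n, ∃ y : M, f y - b n ∈ J ^ n • (⊤ : Submodule C N) := fun n => by
      have hb : g (b n) ∈ J ^ n • (⊤ : Submodule C P) := by simpa using congrArg (fun x => x.val n) hz
      rw [← LinearMap.range_eq_top.mpr hg, map_smul_top, Submodule.mem_map] at hb
      obtain ⟨d, hd, hd'⟩ := hb
      obtain ⟨y, hy⟩ := (hfg (b n - d)).mp (by rw [map_sub, hd', sub_self])
      exact ⟨y, by rw [hy, sub_sub_cancel_left]; exact neg_mem hd⟩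
    have hstep : ∀ (n : ℕ) (a : {a : M // f a - b (n + k) ∈ J ^ (n + k) • (⊤ : Submodule C N)}),
        ∃ a' : {a : M // f a - b (n + 1 + k) ∈ J ^ (n + 1 + k) • (⊤ : Submodule C N)},
          a'.1 - a.1 ∈ J ^ n • (⊤ : Submodule C M) := by
      rintro n ⟨a, ha⟩
      obtain ⟨y, hy⟩ := hdec (n + 1 + k)
      have h1 : f (y - a) ∈ J ^ n • LinearMap.range f := by
        refine hk n ⟨?_, LinearMap.mem_range_self f _⟩
        have hbb : b (n + 1 + k) - b (n + k) ∈ J ^ (n + k) • (⊤ : Submodule C N) :=
          SModEq.sub_mem.mp (b.2 (show n + k ≤ n + 1 + k by omega)).symm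
        rw [map_sub, show f y - f a = (f y - b (n + 1 + k)) + (b (n + 1 + k) - b (n + k)) - (f a - b (n + k)) by abel]
        exact sub_mem (add_mem (Submodule.smul_mono_left (Ideal.pow_le_pow_right (by omega)) hy) hbb) ha
      rw [map_smul_top, Submodule.mem_map] at h1
      obtain ⟨δ, hδ, hδ'⟩ := h1
      refine ⟨⟨a + δ, ?_⟩, by simpa using hδ⟩
      rwa [map_add, hδ', map_sub, add_sub_cancel]
    choose step hstep using hstep
    let a₀ : {a : M // f a - b (0 + k) ∈ J ^ (0 + k) • (⊤ : Submodule C N)} := ⟨_, (hdec (0 + k)).choose_spec⟩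
    let a : (n : ℕ) → {a : M // f a - b (n + k) ∈ J ^ (n + k) • (⊤ : Submodule C N)} :=
      fun n => Nat.rec a₀ (fun n a => step n a) n
    refine ⟨AdicCompletion.mk J M (AdicCompletion.AdicCauchySequence.mk J M (fun n => (a n).1)
      fun n => SModEq.sub_mem.mpr ?_), ?_⟩
    · rw [← neg_mem_iff, neg_sub]
      exact hstep n (a n)
    · ext n
      simp only [AdicCompletion.map_mk, AdicCompletion.mk_apply_coe, Submodule.mkQ_apply]
      refine (Submodule.Quotient.eq _).mpr ?_
      show f (a n).1 - b n ∈ _
      rw [show f ((a n).1) - b n = (f (a n).1 - b (n + k)) + (b (n + k) - b n) by abel]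
      exact add_mem (Submodule.smul_mono_left (Ideal.pow_le_pow_right (Nat.le_add_right n k)) (a n).2)
        (SModEq.sub_mem.mp (b.2 (Nat.le_add_right n k)).symm)

theorem ofTensorProduct_bijective_of_finitePresentation (hAR : HasAR J) [Module.FinitePresentation C M] :
    Function.Bijective (ofTensorProduct J M) := by
  refine ⟨?_, ofTensorProduct_surjective_of_finite J M⟩
  rw [← LinearMap.ker_eq_bot, LinearMap.ker_eq_bot']
  intro z hz
  obtain ⟨s, π, hπ⟩ := Module.Finite.exists_fin' C M
  haveI : Module.Finite C (LinearMap.ker π) :=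
    Module.Finite.iff_fg.mpr (Module.FinitePresentation.fg_ker π hπ)
  obtain ⟨w, rfl⟩ := LinearMap.lTensor_surjective (AdicCompletion J C) hπ z
  have h1 : AdicCompletion.map J π (ofTensorProduct J (Fin s → C) w) = 0 := by
    rw [← hz]
    exact (LinearMap.congr_fun (ofTensorProduct_naturality J π) w)
  obtain ⟨v, hv⟩ := (map_exact_of_hasAR hAR π.exact_subtype_ker_map hπ _).mp h1
  obtain ⟨u, rfl⟩ := ofTensorProduct_surjective_of_finite J (LinearMap.ker π) v
  have h2 : AlgebraTensorModule.map (LinearMap.id : AdicCompletion J C →ₗ[AdicCompletion J C] _) (LinearMap.ker π).subtype u = w := by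
    refine (ofTensorProduct_bijective_of_pi_of_fintype J (Fin s)).1 ?_
    rw [← hv]
    exact (LinearMap.congr_fun (ofTensorProduct_naturality J (LinearMap.ker π).subtype) u).symm
  rw [← h2]
  exact ((lTensor_exact (AdicCompletion J C) π.exact_subtype_ker_map hπ _).mpr ⟨u, rfl⟩)

/-- Elements of the completion tensored with a module killed by a power of `J` are elementary. -/
theorem exists_one_tmul (hJ : J.FG) {k : ℕ} (hk : ∀ a ∈ J ^ k, ∀ t : M, a • t = 0) (w : AdicCompletion J C ⊗[C] M) :
    ∃ t : M, w = 1 ⊗ₜ[C] t := by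
  induction w using TensorProduct.induction_on with
  | zero => exact ⟨0, (TensorProduct.tmul_zero _ _).symm⟩
  | add a b ha hb =>
    obtain ⟨t, rfl⟩ := ha
    obtain ⟨t', rfl⟩ := hb
    exact ⟨t + t', (TensorProduct.tmul_add _ _ _).symm⟩
  | tmul x t =>
    obtain ⟨c, hc⟩ := Adic7.exists_sub_algebraMap_mem J hJ x k
    refine ⟨c • t, ?_⟩
    rw [← sub_eq_zero, ← TensorProduct.smul_tmul, ← TensorProduct.sub_tmul, ← Algebra.algebraMap_eq_smul_one]
    rw [← Ideal.map_pow] at hc
    generalize x - algebraMap C (AdicCompletion J C) c = y at hc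
    induction hc using Submodule.span_induction with
    | mem y hy =>
      obtain ⟨e, he, rfl⟩ := hy
      rw [Algebra.algebraMap_eq_smul_one, TensorProduct.smul_tmul, hk e he t, TensorProduct.tmul_zero]
    | zero => exact TensorProduct.zero_tmul _ _
    | add a b _ _ ha hb => rw [TensorProduct.add_tmul, ha, hb, add_zero]
    | smul r y _ hy =>
      have := congrArg (fun q => r • q) hy
      simpa [TensorProduct.smul_tmul'] using this

section Alg

variable {R : Type u} [CommRing R] {I : Ideal R} [Algebra R C]

theorem Nice.hasAR (h : Nice I C) : HasAR (I.map (algebraMap R C)) := by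
  intro M _ _ _ N
  letI : Module R M := Module.compHom M (algebraMap R C)
  haveI : IsScalarTower R C M := IsScalarTower.of_algebraMap_smul fun _ _ => rfl
  obtain ⟨k, hk⟩ := h.artinRees N
  refine ⟨k, fun n x hx => ?_⟩
  rw [← Ideal.map_pow] at hx ⊢
  rw [← Submodule.restrictScalars_mem R, Ideal.smul_restrictScalars]
  refine hk n ⟨?_, hx.2⟩
  have h1 := hx.1
  rwa [SetLike.mem_coe, ← Submodule.restrictScalars_mem R, Ideal.smul_restrictScalars] at h1

/-- Completions of finite modules are base changes. -/
theorem ofTensorProduct_bijective (hI : I.FG) (h : Nice I C) [Module.Finite C M] :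
    Function.Bijective (ofTensorProduct (I.map (algebraMap R C)) M) := by
  refine ⟨?_, ofTensorProduct_surjective_of_finite _ M⟩
  letI : Module R M := Module.compHom M (algebraMap R C)
  haveI : IsScalarTower R C M := IsScalarTower.of_algebraMap_smul fun _ _ => rfl
  obtain ⟨n₀, hn₀⟩ := h.1.exists_pow_smul_satClosure_le hI (⊥ : Submodule C M)
  set T : Submodule C M := satClosure I (⊥ : Submodule C M) with hT
  have htf : AdicRing.NoPowTorsion I (M ⧸ T) := by
    intro x k hx
    obtain ⟨y, rfl⟩ := Submodule.mkQ_surjective T x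
    rw [Submodule.mkQ_apply, Submodule.Quotient.mk_eq_zero]
    refine isSat_satClosure hI _ y k fun a ha => ?_
    have := hx a ha
    rwa [Submodule.mkQ_apply, ← Submodule.Quotient.mk_smul, Submodule.Quotient.mk_eq_zero] at this
  haveI := h.1.finitePresentation (M := M ⧸ T) htf
  have hkill : ∀ a ∈ (I.map (algebraMap R C)) ^ n₀, ∀ t : T, a • t = 0 := by
    intro a ha t
    rw [← Ideal.map_pow] at ha
    induction ha using Submodule.span_induction with
    | mem a ha =>
      obtain ⟨e, he, rfl⟩ := ha
      refine Subtype.ext ?_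
      have := hn₀ e he t.1 t.2
      rw [Submodule.mem_bot] at this
      simpa [algebraMap_smul] using this
    | zero => exact zero_smul _ _
    | add a b _ _ ha hb => rw [add_smul, ha, hb, add_zero]
    | smul c a _ ha => rw [smul_assoc, ha, smul_zero]
  rw [← LinearMap.ker_eq_bot, LinearMap.ker_eq_bot']
  intro z hz
  have h0 : T.mkQ.lTensor (AdicCompletion (I.map (algebraMap R C)) C) z = 0 := by
    refine (ofTensorProduct_bijective_of_finitePresentation h.hasAR).1 ?_
    rw [_root_.map_zero]
    have := LinearMap.congr_fun (ofTensorProduct_naturality (I.map (algebraMap R C)) T.mkQ) z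
    simp only [LinearMap.comp_apply, hz, _root_.map_zero] at this
    exact this.symm
  obtain ⟨w, rfl⟩ := (lTensor_exact (AdicCompletion (I.map (algebraMap R C)) C)
    (LinearMap.exact_subtype_mkQ T) (Submodule.mkQ_surjective T) _).mp h0
  obtain ⟨t, rfl⟩ := exists_one_tmul (hI.map _) hkill w
  rw [LinearMap.lTensor_tmul] at hz ⊢
  obtain ⟨k, hk⟩ := h.hasAR M T
  have h1 : (t : M) ∈ (I.map (algebraMap R C)) ^ (n₀ + k) • (⊤ : Submodule C M) := by
    have := congrArg (fun x => x.val (n₀ + k)) hz
    simpa [ofTensorProduct_tmul] using this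
  have h2 := hk n₀ ⟨h1, t.2⟩
  have h3 : (t : M) = 0 := by
    exact Submodule.smul_induction_on h2 (p := fun x => x = 0)
      (fun a ha y hy => congrArg Subtype.val (hkill a ha ⟨y, hy⟩)) (fun x y hx hy => by rw [hx, hy, add_zero])
  rw [Submodule.subtype_apply, h3, TensorProduct.tmul_zero]

/-- Completion is flat. -/
theorem flat_completion (hI : I.FG) (h : Nice I C) :
    Module.Flat C (AdicCompletion (I.map (algebraMap R C)) C) := by
  rw [Module.Flat.iff_lTensor_injective]
  intro a ha
  haveI : Module.Finite C a := Module.Finite.iff_fg.mpr ha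
  intro x y hxy
  apply (ofTensorProduct_bijective (M := a) hI h).1
  apply map_injective_of_hasAR h.hasAR a.injective_subtype
  have e1 := LinearMap.congr_fun (ofTensorProduct_naturality (I.map (algebraMap R C)) a.subtype) x
  have e2 := LinearMap.congr_fun (ofTensorProduct_naturality (I.map (algebraMap R C)) a.subtype) y
  simp only [LinearMap.comp_apply] at e1 e2
  rw [e1, e2]
  exact congrArg _ hxy

end Alg

end Groth.Agent.Frg7
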