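import Groth.Agent.Frg7.RigPoint2
import Mathlib.RingTheory.NoetherNormalization

/-!
# A topologically finite type domain whose generic fibre is a field is one-dimensional
-/

universe u

noncomputable section

namespace Groth.Agent.Frg7

open AdicRing IsLocalRing MvPolynomial

variable {R : Type u} [CommRing R] [IsDomain R] [ValuationRing R] [Ring.KrullDimLE 1 R]
  {t : R} (ht : t ≠ 0) [hc : IsAdicComplete (Ideal.span {t}) R]
  {B : Type u} [CommRing B] [IsDomain B] [Algebra R B]

set_option maxHeartbeats 1000000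

include ht hc in
/-- If every nonzero element divides a power of `t`, the dimension is one. -/
theorem ringKrullDim_eq_one_of_forall_dvd (hB : TopFiniteType R (Ideal.span {t}) B) (htB : algebraMap R B t ≠ 0)
    (hdiv : ∀ b : B, b ≠ 0 → ∃ (c : B) (k : ℕ), b * c = algebraMap R B t ^ k) : ringKrullDim B = 1 := by
  classical
  have hR := isBase (R := R) ht
  have hI := IsBase.fg hR
  have htm := mem_maximalIdeal_of_isAdicComplete hc
  have hinjR := injective_algebraMap ht htB
  haveI hcB : IsAdicComplete (Ideal.span {t}) B := Frg7.isAdicComplete hR hB B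
  haveI : IsHausdorff (Ideal.span {t}) B := hcB.toIsHausdorff
  haveI : IsAdicComplete ((Ideal.span {t}).map (algebraMap R B)) B :=
    (IsAdicComplete.map_algebraMap_iff (Ideal.span {t}) B).mpr hcB
  -- the special fibre
  set 𝔟 : Ideal B := (Ideal.span {t}).map (algebraMap R B)
  set 𝔪 : Ideal B := (maximalIdeal R).map (algebraMap R B)
  have h𝔪rad : 𝔪 ≤ 𝔟.radical := Ideal.map_le_iff_le_comap.mpr fun a ha => by
    obtain ⟨k, hk⟩ := mem_radical_of_mem ha ht
    exact ⟨k, by rw [← map_pow]; exact Ideal.mem_map_of_mem _ hk⟩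
  haveI : Nontrivial (B ⧸ 𝔪) := Ideal.Quotient.nontrivial_iff.mpr fun h => by
    have h1 : 𝔟.radical = ⊤ := top_le_iff.mp (h ▸ h𝔪rad)
    rw [Ideal.radical_eq_top] at h1
    have h2 := le_jacobson hR hB
    rw [show (Ideal.span {t}).map (algebraMap R B) = 𝔟 from rfl, h1, top_le_iff, Ideal.jacobson_eq_top_iff] at h2
    exact bot_ne_top h2
  letI : Algebra (ResidueField R) (B ⧸ 𝔪) := (Ideal.quotientMap 𝔪 (algebraMap R B) Ideal.le_comap_map).toAlgebra
  haveI : IsScalarTower R (ResidueField R) (B ⧸ 𝔪) := IsScalarTower.of_algebraMap_eq fun r => rfl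
  haveI hftQ : Algebra.FiniteType R (B ⧸ 𝔟) := by
    have h1 := finiteType_trunc hI hB 1
    rw [pow_one] at h1
    exact h1
  have hle : 𝔟 ≤ 𝔪 := Ideal.map_mono ((Ideal.span_singleton_le_iff_mem _).mpr htm)
  haveI : Algebra.FiniteType R (B ⧸ 𝔪) :=
    Algebra.FiniteType.of_surjective (Ideal.Quotient.factorₐ R hle) (Ideal.Quotient.factor_surjective hle)
  haveI : Algebra.FiniteType (ResidueField R) (B ⧸ 𝔪) := Algebra.FiniteType.of_restrictScalars_finiteType R _ _
  obtain ⟨s, g, hg, hgfin⟩ := exists_finite_inj_algHom_of_fg (ResidueField R) (B ⧸ 𝔪)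
  choose b hb using fun i => Ideal.Quotient.mk_surjective (g (X i))
  let f : MvPolynomial (Fin s) R →ₐ[R] B := aeval b
  obtain ⟨F, hF⟩ := Adic7.exists_lift_completion ((Ideal.span {t}).map (C : R →+* MvPolynomial (Fin s) R)) 𝔟 f
    (le_of_eq ((Ideal.map_map (I := Ideal.span {t}) MvPolynomial.C f.toRingHom).trans
      (congrArg (Ideal.map · (Ideal.span {t})) f.comp_algebraMap)))
  let resk : MvPolynomial (Fin s) R →+* MvPolynomial (Fin s) (ResidueField R) := MvPolynomial.map (residue R)
  have hred : ∀ q, Ideal.Quotient.mk 𝔪 (f q) = g (resk q) := fun q => by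
    induction q using MvPolynomial.induction_on with
    | C a =>
      show Ideal.Quotient.mk 𝔪 (f (C a)) = g (resk (C a))
      rw [show resk (C a) = C (residue R a) from MvPolynomial.map_C _ _, ← MvPolynomial.algebraMap_eq, AlgHom.commutes,
        ← MvPolynomial.algebraMap_eq, AlgHom.commutes]
      rfl
    | add p q hp hq => simp only [map_add, hp, hq]
    | mul_X p j hp =>
      simp only [map_mul, hp]
      congr 1
      show Ideal.Quotient.mk 𝔪 (f (X j)) = g (resk (X j))
      rw [show resk (X j) = X j from MvPolynomial.map_X _ _, ← hb]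
      simp [f]
  -- injectivity
  have hFinj : Function.Injective F := by
    rw [injective_iff_map_eq_zero]
    intro x hx
    haveI : IsHausdorff (Ideal.span {t}) (RPow R (Ideal.span {t}) s) :=
      IsHausdorff.map_algebraMap_iff.mp (complete_rPow hR s).toIsHausdorff
    refine IsHausdorff.haus ‹_› x fun K => ?_
    rw [SModEq.zero, Ideal.smul_top_eq_map, Submodule.restrictScalars_mem]
    obtain ⟨q, hq⟩ := exists_sub_mem_map_pow hI x K
    have hK : t ^ K ∈ Ideal.span {t} ^ K := Ideal.pow_mem_pow (Ideal.mem_span_singleton_self t) K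
    obtain ⟨y, hy⟩ : ∃ y, x - algebraMap _ _ q = algebraMap R (RPow R (Ideal.span {t}) s) (t ^ K) * y := by
      have h1 : ((Ideal.span {t}) ^ K).map (algebraMap R (RPow R (Ideal.span {t}) s)) ≤
          Ideal.span {algebraMap R (RPow R (Ideal.span {t}) s) (t ^ K)} := by
        rw [Ideal.map_le_iff_le_comap, Ideal.span_singleton_pow, Ideal.span_singleton_le_iff_mem]
        exact Ideal.mem_span_singleton_self _
      obtain ⟨y, hy⟩ := Ideal.mem_span_singleton'.mp (h1 hq)
      exact ⟨y, by rw [mul_comm, hy]⟩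
    obtain ⟨d, hd, hdvd⟩ := exists_mem_forall_dvd (insert (t ^ K) (q.support.image fun e => coeff e q))
      ⟨t ^ K, Finset.mem_insert_self _ _⟩
    have hdq : ∀ e, d ∣ coeff e q := fun e => by
      by_cases h : coeff e q = 0
      · rw [h]; exact dvd_zero d
      · exact hdvd _ (Finset.mem_insert_of_mem (Finset.mem_image.mpr ⟨e, mem_support_iff.mpr h, rfl⟩))
    obtain ⟨q₀, hq₀⟩ := (C_dvd_iff_dvd_coeff d q).mpr hdq
    obtain ⟨e, he⟩ := hdvd (t ^ K) (Finset.mem_insert_self _ _)
    set z : RPow R (Ideal.span {t}) s := algebraMap _ _ q₀ + algebraMap R _ e * y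
    have hxz : x = algebraMap R (RPow R (Ideal.span {t}) s) d * z := by
      rw [← sub_add_cancel x (algebraMap _ _ q), hy, hq₀, he, map_mul, map_mul,
        show algebraMap (MvPolynomial (Fin s) R) (RPow R (Ideal.span {t}) s) (C d) = algebraMap R _ d from
          (IsScalarTower.algebraMap_apply R (MvPolynomial (Fin s) R) (RPow R (Ideal.span {t}) s) d).symm]
      ring
    by_cases heu : IsUnit e
    · obtain ⟨v, hv⟩ := heu.exists_right_inv
      rw [hxz, show d = t ^ K * v by rw [he, mul_assoc, hv, mul_one], map_mul, mul_assoc]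
      exact Ideal.mul_mem_right _ _ (Ideal.mem_map_of_mem _ hK)
    exfalso
    have hd0 : d ≠ 0 := fun h => pow_ne_zero K ht (by rw [he, h, zero_mul])
    have hFz : F z = 0 := by
      rw [hxz, map_mul, AlgHom.commutes, mul_eq_zero] at hx
      exact hx.resolve_left fun h => hd0 (hinjR (h.trans (map_zero _).symm))
    have hg0 : resk q₀ = 0 := hg (by
      rw [map_zero, ← hred, ← hF]
      have h2 := congrArg (Ideal.Quotient.mk 𝔪) hFz
      rw [map_zero, map_add, map_mul, AlgHom.commutes, map_add, map_mul,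
        Ideal.Quotient.eq_zero_iff_mem.mpr (Ideal.mem_map_of_mem (algebraMap R B) ((mem_maximalIdeal e).mpr heu)),
        zero_mul, add_zero] at h2
      exact h2)
    rcases Finset.mem_insert.mp hd with rfl | hd'
    · exact heu (IsUnit.of_mul_eq_one 1 (by
        rw [mul_one]; exact mul_left_cancel₀ hd0 (he.symm.trans (mul_one _).symm)))
    · obtain ⟨γ, -, hγ⟩ := Finset.mem_image.mp hd'
      have h3 := congrArg (coeff γ) hq₀
      rw [coeff_C_mul, hγ] at h3
      have h4 : coeff γ q₀ = 1 := mul_left_cancel₀ hd0 (h3.symm.trans (mul_one d).symm)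
      have h5 := congrArg (coeff γ) hg0
      rw [show resk q₀ = MvPolynomial.map (residue R) q₀ from rfl, coeff_map, h4, map_one, coeff_zero] at h5
      exact one_ne_zero h5
  -- finiteness of the reduction
  let h : MvPolynomial (Fin s) R →ₐ[R] B ⧸ 𝔟 := (Ideal.Quotient.mkₐ R 𝔟).comp f
  have hint : h.toRingHom.IsIntegral := fun x => by
    obtain ⟨x, rfl⟩ := Ideal.Quotient.mk_surjective x
    obtain ⟨p, hp, hpx⟩ := hgfin.to_isIntegral (Ideal.Quotient.mk 𝔪 x)
    have hsurj : Function.Surjective resk := MvPolynomial.map_surjective (residue R) residue_surjective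
    obtain ⟨p', hp', -, hpm⟩ := Polynomial.lifts_and_degree_eq_and_monic
      ((Polynomial.mem_lifts p).mpr (Polynomial.map_surjective _ hsurj p)) hp
    have hmem : p'.eval₂ f.toRingHom x ∈ 𝔪 := by
      rw [← Ideal.Quotient.eq_zero_iff_mem, Polynomial.hom_eval₂]
      rw [← hp', Polynomial.eval₂_map] at hpx
      rw [show (Ideal.Quotient.mk 𝔪).comp f.toRingHom = g.toRingHom.comp resk from RingHom.ext hred]
      exact hpx
    obtain ⟨N, hN⟩ := h𝔪rad hmem
    refine ⟨p' ^ N, hpm.pow N, ?_⟩
    rw [Polynomial.eval₂_pow, show h.toRingHom = (Ideal.Quotient.mk 𝔟).comp f.toRingHom from rfl,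
      ← Polynomial.hom_eval₂, ← map_pow, Ideal.Quotient.eq_zero_iff_mem]
    exact hN
  have hfin : h.toRingHom.Finite := hint.to_finite (RingHom.FiniteType.of_comp_finiteType
    (f := algebraMap R (MvPolynomial (Fin s) R)) (by
      rw [AlgHom.toRingHom_eq_coe, h.comp_algebraMap]; exact RingHom.finiteType_algebraMap.mpr hftQ))
  rcases Nat.eq_zero_or_pos s with rfl | hs
  · haveI : Module.Finite R (B ⧸ 𝔟) := by
      rw [← RingHom.finite_algebraMap, ← h.comp_algebraMap]
      refine hfin.comp (RingHom.Finite.of_surjective _ ?_)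
      rw [MvPolynomial.algebraMap_eq]
      exact MvPolynomial.C_surjective _
    haveI : Module.Finite R (B ⧸ (Ideal.span {t} • ⊤ : Submodule R B)) :=
      Module.Finite.equiv ((Submodule.Quotient.restrictScalarsEquiv R _).symm.trans
        (Submodule.quotEquivOfEq _ _ (Ideal.smul_top_eq_map (Ideal.span {t})).symm))
    haveI := finite_of_finite_quotient ht B
    exact ringKrullDim_of_finite ht htB
  exfalso
  -- `B` is finite over the restricted power series
  algebraize [F.toRingHom]
  haveI : IsScalarTower R (RPow R (Ideal.span {t}) s) B := IsScalarTower.of_algebraMap_eq fun r => (F.commutes r).symm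
  set J := (Ideal.span {t}).map (algebraMap R (RPow R (Ideal.span {t}) s))
  haveI : IsAdicComplete J (RPow R (Ideal.span {t}) s) := complete_rPow hR s
  haveI : IsHausdorff J B := IsHausdorff.map_algebraMap_iff.mpr ‹IsHausdorff (Ideal.span {t}) B›
  haveI : Module.Finite (RPow R (Ideal.span {t}) s) B := by
    letI := h.toRingHom.toAlgebra
    haveI : Module.Finite (MvPolynomial (Fin s) R) (B ⧸ 𝔟) := hfin
    obtain ⟨l, π, hπ⟩ := Module.Finite.exists_fin' (MvPolynomial (Fin s) R) (B ⧸ 𝔟)
    choose c hc' using fun i => Ideal.Quotient.mk_surjective (π (Pi.single i 1))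
    let φ : (Fin l → RPow R (Ideal.span {t}) s) →ₗ[RPow R (Ideal.span {t}) s] B := Fintype.linearCombination _ c
    haveI : IsPrecomplete J (Fin l → RPow R (Ideal.span {t}) s) := Adic7.isPrecomplete_of_finite _ _
    refine Module.Finite.of_surjective φ (surjective_of_mkQ_comp_surjective (I := J) fun y => ?_)
    obtain ⟨y, rfl⟩ := Submodule.mkQ_surjective _ y
    obtain ⟨v, hv⟩ := hπ (Ideal.Quotient.mk 𝔟 y)
    refine ⟨fun i => algebraMap _ _ (v i), (Submodule.Quotient.eq _).mpr ?_⟩
    rw [Ideal.smul_top_eq_map, Submodule.restrictScalars_mem,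
      show J.map (algebraMap (RPow R (Ideal.span {t}) s) B) = 𝔟 from
        (Ideal.map_map _ _).trans (congrArg (Ideal.map · _) F.comp_algebraMap)]
    have hv' : π v = ∑ i, h (v i) * Ideal.Quotient.mk 𝔟 (c i) := by
      conv_lhs => rw [pi_eq_sum_univ v]
      rw [map_sum]
      refine Finset.sum_congr rfl fun i _ => ?_
      rw [map_smul, show (fun j => if i = j then (1 : MvPolynomial (Fin s) R) else 0) = Pi.single i 1 from
        funext fun j => by simp [Pi.single_apply, eq_comm], ← hc' i]
      exact Algebra.smul_def _ _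
    rw [← Ideal.Quotient.eq, ← hv, hv']
    simp only [φ, Fintype.linearCombination_apply, map_sum]
    refine Finset.sum_congr rfl fun i _ => ?_
    show Ideal.Quotient.mk 𝔟 (F (algebraMap _ _ _) * c i) = _
    rw [map_mul, hF]
    rfl
  let i₀ : Fin s := ⟨0, hs⟩
  let ε₀ : MvPolynomial (Fin s) R →ₐ[R] R := aeval 0
  haveI : IsAdicComplete ((Ideal.span {t}).map (algebraMap R R)) R := by rwa [Algebra.algebraMap_self, Ideal.map_id]
  obtain ⟨ε, hε⟩ := Adic7.exists_lift_completion ((Ideal.span {t}).map (C : R →+* MvPolynomial (Fin s) R))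
    ((Ideal.span {t}).map (algebraMap R R)) ε₀
    (le_of_eq ((Ideal.map_map (I := Ideal.span {t}) MvPolynomial.C ε₀.toRingHom).trans
      (congrArg (Ideal.map · (Ideal.span {t})) ε₀.comp_algebraMap)))
  set y : RPow R (Ideal.span {t}) s := algebraMap _ _ (X i₀ : MvPolynomial (Fin s) R) with hy
  have hy0 : y ≠ 0 := fun e => by
    have h1 : Ideal.Quotient.mk 𝔪 (f (X i₀)) = 0 := by rw [← hF, ← hy, e, map_zero, map_zero]
    rw [hred, show resk (X i₀) = X i₀ from MvPolynomial.map_X _ _, map_eq_zero_iff _ hg] at h1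
    exact X_ne_zero i₀ h1
  obtain ⟨c, k, hck⟩ := hdiv (F y) ((map_ne_zero_iff _ hFinj).mpr hy0)
  obtain ⟨P, hP, hPc⟩ := Algebra.IsIntegral.isIntegral (R := RPow R (Ideal.span {t}) s) c
  have h1 : (P.scaleRoots y).eval (algebraMap R (RPow R (Ideal.span {t}) s) t ^ k) = 0 := hFinj (by
    have h2 := Polynomial.scaleRoots_eval₂_mul (p := P) (algebraMap (RPow R (Ideal.span {t}) s) B) c y
    rw [hPc, mul_zero, show algebraMap (RPow R (Ideal.span {t}) s) B y = F y from rfl, hck] at h2
    rw [map_zero, ← h2, show algebraMap R B t ^ k = F (algebraMap R (RPow R (Ideal.span {t}) s) t ^ k) by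
      rw [map_pow, AlgHom.commutes]]
    exact (Polynomial.eval₂_at_apply F.toRingHom _).symm)
  have hεy : ε y = 0 := by rw [hy, hε]; simp [ε₀]
  have h3 := congrArg ε h1
  rw [map_zero, ← AlgHom.coe_toRingHom, ← Polynomial.eval₂_at_apply, ← Polynomial.eval_map,
    Polynomial.map_scaleRoots _ _ _ (by rw [hP.leadingCoeff, map_one]; exact one_ne_zero)] at h3
  simp only [AlgHom.coe_toRingHom, hεy, Polynomial.scaleRoots_zero, (hP.map _).leadingCoeff, one_smul,
    Polynomial.eval_pow, Polynomial.eval_X, map_pow, AlgHom.commutes, Algebra.algebraMap_self, RingHom.id_apply] at h3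
  exact pow_ne_zero _ (pow_ne_zero k ht) h3

end Groth.Agent.Frg7
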