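import Groth.Agent.Frg7.Completion
import Groth.Agent.LocalCrit.Flatness

/-!
# Flatness is tested modulo the powers of the ideal of definition
-/

universe u

noncomputable section

namespace Groth.Agent.Frg7

open TensorProduct AdicRing

variable {R : Type u} [CommRing R] {I : Ideal R}
  {A : Type u} [CommRing A] [Algebra R A] {B : Type u} [CommRing B] [Algebra R B] [Algebra A B] [IsScalarTower R A B]
  {M : Type u} [AddCommGroup M] [Module B M] [Module A M] [IsScalarTower A B M] [Module.Finite B M]

/-- Flatness follows from flatness modulo all powers of the ideal of definition. -/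
theorem flat_of_trunc (hR : IsBase R I) (hA : TopFiniteType R I A) (hB : TopFiniteType R I B)
    (h : ∀ n : ℕ, Module.Flat (trunc A I n) ((trunc A I n) ⊗[A] M)) : Module.Flat A M := by
  rw [Module.Flat.iff_rTensor_injective]
  intro J hJ
  haveI : Module.Finite A J := Module.Finite.iff_fg.mpr hJ
  rw [← LinearMap.ker_eq_bot, eq_bot_iff]
  intro x hx
  rw [LinearMap.mem_ker] at hx
  let τ := TensorProduct.comm A ↥J M
  suffices τ x = 0 by simpa using this
  haveI := LocalCrit.finite_tensor (A := A) (C := B) M ↥J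
  letI : Module R (M ⊗[A] J) := Module.compHom _ (algebraMap R B)
  haveI : IsScalarTower R B (M ⊗[A] J) := IsScalarTower.of_algebraMap_smul fun _ _ => rfl
  refine ((nice hR hB).isHausdorff (le_jacobson hR hB) (M := M ⊗[A] J)).haus _ fun n => ?_
  rw [SModEq.zero]
  set 𝔞 : Ideal A := I.map (algebraMap R A) with h𝔞
  obtain ⟨c, hc⟩ := (nice hR hA).hasAR A (J : Submodule A A)
  let a : Ideal A := (I ^ (n + c + 1)).map (algebraMap R A)
  haveI : Module.Flat (A ⧸ a) ((A ⧸ a) ⊗[A] M) := h (n + c)
  have hK : LocalCrit.KeepsInjective a M := LocalCrit.keepsInjective_of_flat a M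
  set S : Submodule A J := Submodule.comap (Submodule.subtype J) a
  let g : (↥J ⧸ S) →ₗ[A] A ⧸ a := Submodule.mapQ _ _ J.subtype le_rfl
  have hg : Function.Injective g := by
    rw [← LinearMap.ker_eq_bot]; simp [g, S, Submodule.ker_mapQ]
  have hT : Module.IsTorsionBySet A (A ⧸ a) (a : Ideal A) := by
    rintro y ⟨b, hb⟩
    obtain ⟨y, rfl⟩ := Ideal.Quotient.mk_surjective y
    exact Ideal.Quotient.eq_zero_iff_mem.mpr (a.mul_mem_right y hb)
  have hT' : Module.IsTorsionBySet A (↥J ⧸ S) (a : Ideal A) := fun y b =>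
    hg (by rw [map_smul, map_zero]; exact @hT (g y) b)
  have h0 : S.mkQ.rTensor M x = 0 := hK g hT' hT hg (by
    rw [map_zero, ← LinearMap.comp_apply, ← LinearMap.rTensor_comp, Submodule.mapQ_mkQ,
      LinearMap.rTensor_comp, LinearMap.comp_apply, hx, map_zero])
  obtain ⟨y, hy⟩ := (rTensor_exact M (LinearMap.exact_subtype_mkQ _) (Submodule.mkQ_surjective _) x).mp h0
  rw [← hy]
  clear hy h0 hx hK
  have key : ∀ z ∈ 𝔞 ^ n • (J : Submodule A A), ∀ hz : z ∈ J, ∀ m : M,
      (m ⊗ₜ[A] (⟨z, hz⟩ : J)) ∈ (I.map (algebraMap R B)) ^ n • (⊤ : Submodule B (M ⊗[A] J)) := by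
    intro z hz
    induction hz using Submodule.smul_induction_on' with
    | smul b hb w hw =>
      intro hz' m
      rw [show (⟨b • w, hz'⟩ : J) = b • (⟨w, hw⟩ : J) from rfl, tmul_smul, ← algebraMap_smul B b]
      refine Submodule.smul_mem_smul ?_ Submodule.mem_top
      rw [IsScalarTower.algebraMap_eq R A B, ← Ideal.map_map, ← Ideal.map_pow]
      exact Ideal.mem_map_of_mem _ hb
    | add p hp q hq hp' hq' =>
      intro hz' m
      have hpJ : p ∈ J := Submodule.smul_le_right hp
      have hqJ : q ∈ J := Submodule.smul_le_right hq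
      rw [show (⟨p + q, hz'⟩ : J) = ⟨p, hpJ⟩ + ⟨q, hqJ⟩ from rfl, tmul_add]
      exact add_mem (hp' hpJ m) (hq' hqJ m)
  show τ _ ∈ I ^ n • (⊤ : Submodule B (M ⊗[A] J)).restrictScalars R
  rw [← Ideal.smul_restrictScalars, Submodule.restrictScalars_mem, Ideal.map_pow]
  induction y using TensorProduct.induction_on with
  | zero => simp
  | add y z hy hz => simp only [map_add]; exact add_mem hy hz
  | tmul j m =>
    simp only [LinearMap.rTensor_tmul, Submodule.subtype_apply, τ, comm_tmul]
    refine key _ (hc n ⟨?_, (j : J).2⟩) (j : J).2 m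
    show ((j : J) : A) ∈ 𝔞 ^ (n + c) • (⊤ : Submodule A A)
    rw [Ideal.smul_eq_mul, Ideal.mul_top, h𝔞, ← Ideal.map_pow]
    exact Ideal.map_mono (Ideal.pow_le_pow_right (Nat.le_succ _)) j.2

/-- Faithful flatness follows from faithful flatness modulo the ideal of definition, given flatness. -/
theorem faithfullyFlat_of_trunc (hR : IsBase R I) (hA : TopFiniteType R I A) [Module.Flat A M]
    [Module.FaithfullyFlat (trunc A I 0) ((trunc A I 0) ⊗[A] M)] : Module.FaithfullyFlat A M := by
  refine ⟨fun m hm h => ?_⟩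
  have hle : (I ^ (0 + 1)).map (algebraMap R A) ≤ m := by
    rw [zero_add, pow_one]
    exact (le_jacobson hR hA).trans (sInf_le ⟨bot_le, hm⟩)
  let mk := Ideal.Quotient.mk ((I ^ (0 + 1)).map (algebraMap R A))
  have hm' : m.map mk ≠ ⊤ := fun e => hm.ne_top (by
    have := congrArg (Ideal.comap mk) e
    rwa [Ideal.comap_map_of_surjective _ Ideal.Quotient.mk_surjective, Ideal.comap_top, ← RingHom.ker_eq_comap_bot,
      Ideal.mk_ker, sup_eq_left.mpr hle] at this)
  refine ((Module.FaithfullyFlat.iff_flat_and_proper_ideal _ _).mp ‹_›).2 _ hm' (top_le_iff.mp fun z _ => ?_)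
  induction z using TensorProduct.induction_on with
  | zero => exact zero_mem _
  | add a b ha hb => exact add_mem (ha trivial) (hb trivial)
  | tmul c x =>
    have hx : x ∈ m • (⊤ : Submodule A M) := by rw [h]; trivial
    induction hx using Submodule.smul_induction_on' with
    | smul b hb y hy =>
      rw [tmul_smul, ← algebraMap_smul (trunc A I 0) b]
      exact Submodule.smul_mem_smul (Ideal.mem_map_of_mem mk hb) trivial
    | add p hp q hq hp' hq' => rw [tmul_add]; exact add_mem (hp' trivial) (hq' trivial)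

end Groth.Agent.Frg7
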