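import Groth.Agent.Frg7.Trunc

/-!
# Complete localizations and their truncations
-/

universe u

noncomputable section

namespace Groth.Agent.Frg7

open AdicRing TensorProduct

variable {R : Type u} [CommRing R] {I : Ideal R}

theorem map_pow_le_comap (C : Type u) [CommRing C] [Algebra R C] (k : ℕ) :
    (I ^ k).map (algebraMap R C) ≤
      ((I ^ k).map (algebraMap R (AdicCompletion (I.map (algebraMap R C)) C))).comap
        (IsScalarTower.toAlgHom R C (AdicCompletion (I.map (algebraMap R C)) C)) :=
  Ideal.map_le_iff_le_comap.mpr fun r hr => by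
    rw [Ideal.mem_comap, Ideal.mem_comap, IsScalarTower.coe_toAlgHom', ← IsScalarTower.algebraMap_apply]
    exact Ideal.mem_map_of_mem _ hr

/-- A completion has the same truncations. -/
theorem bijective_trunc_completion (hI : I.FG) (C : Type u) [CommRing C] [Algebra R C] (k : ℕ) :
    Function.Bijective (Ideal.quotientMapₐ
      ((I ^ k).map (algebraMap R (AdicCompletion (I.map (algebraMap R C)) C)))
      (IsScalarTower.toAlgHom R C (AdicCompletion (I.map (algebraMap R C)) C))
      (map_pow_le_comap (I := I) C k)) := by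
  set J := I.map (algebraMap R C) with hJ
  refine ⟨(injective_iff_map_eq_zero _).mpr fun x hx => ?_, fun y => ?_⟩
  · obtain ⟨c, rfl⟩ := Ideal.Quotient.mk_surjective x
    have hc : algebraMap C (AdicCompletion J C) c ∈ (I ^ k).map (algebraMap R (AdicCompletion J C)) :=
      Ideal.Quotient.eq_zero_iff_mem.mp hx
    have hle : (I ^ k).map (algebraMap R (AdicCompletion J C)) ≤ RingHom.ker (AdicCompletion.evalₐ J k).toRingHom := by
      rw [Ideal.map_le_iff_le_comap]
      intro r hr
      show AdicCompletion.evalₐ J k (algebraMap R (AdicCompletion J C) r) = 0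
      rw [IsScalarTower.algebraMap_apply R C (AdicCompletion J C), AlgHom.commutes, Ideal.Quotient.algebraMap_eq,
        Ideal.Quotient.eq_zero_iff_mem, hJ, ← Ideal.map_pow]
      exact Ideal.mem_map_of_mem _ hr
    have h1 : AdicCompletion.evalₐ J k (algebraMap C (AdicCompletion J C) c) = 0 := hle hc
    rw [AlgHom.commutes, Ideal.Quotient.algebraMap_eq, Ideal.Quotient.eq_zero_iff_mem, hJ, ← Ideal.map_pow] at h1
    exact Ideal.Quotient.eq_zero_iff_mem.mpr h1
  · obtain ⟨z, rfl⟩ := Ideal.Quotient.mk_surjective y
    obtain ⟨c, hc⟩ := Adic7.exists_sub_algebraMap_mem J (hI.map _) z k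
    have e : (J.map (algebraMap C (AdicCompletion J C))) ^ k = (I ^ k).map (algebraMap R (AdicCompletion J C)) :=
      (congrArg (· ^ k) ((Ideal.map_map (I := I) (algebraMap R C) (algebraMap C (AdicCompletion J C))).trans
        (congrArg (Ideal.map · I) (IsScalarTower.algebraMap_eq R C (AdicCompletion J C)).symm))).trans
        (Ideal.map_pow _ I k).symm
    rw [e] at hc
    exact ⟨Ideal.Quotient.mk _ c, (Ideal.Quotient.eq.mpr hc).symm⟩

variable {A : Type u} [CommRing A] [Algebra R A]

/-- The truncations of a complete localization are the localizations of the truncations. -/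
theorem exists_equiv_trunc_cLoc (hI : I.FG) (f : A) (k : ℕ) :
    Nonempty ((CLoc I f ⧸ (I ^ k).map (algebraMap R (CLoc I f))) ≃ₐ[R]
      Localization.Away (Ideal.Quotient.mk ((I ^ k).map (algebraMap R A)) f)) := by
  set a := (I ^ k).map (algebraMap R A) with ha
  let L := Localization.Away f
  have h1 : (I ^ k).map (algebraMap R L) = a.map (algebraMap A L) := by
    rw [ha, Ideal.map_map, ← IsScalarTower.algebraMap_eq]
  haveI : IsLocalization.Away (Ideal.Quotient.mk a f) (L ⧸ a.map (algebraMap A L)) := by
    show IsLocalization (Submonoid.powers (Ideal.Quotient.mk a f)) _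
    rw [show Submonoid.powers (Ideal.Quotient.mk a f) = Algebra.algebraMapSubmonoid (A ⧸ a) (Submonoid.powers f) from
      (Submonoid.map_powers (Ideal.Quotient.mk a).toMonoidHom f).symm]
    infer_instance
  haveI : IsScalarTower R (A ⧸ a) (L ⧸ a.map (algebraMap A L)) := IsScalarTower.of_algebraMap_eq fun r => by
    show Ideal.Quotient.mk (a.map (algebraMap A L)) (algebraMap R L r) =
      Ideal.Quotient.mk (a.map (algebraMap A L)) (algebraMap A L (algebraMap R A r))
    rw [← IsScalarTower.algebraMap_apply]
  let e1 := (AlgEquiv.ofBijective _ (bijective_trunc_completion hI L k)).symm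
  let e2 := Ideal.quotientEquivAlgOfEq R h1
  let e3 := (IsLocalization.algEquiv (Submonoid.powers (Ideal.Quotient.mk a f)) (L ⧸ a.map (algebraMap A L))
    (Localization.Away (Ideal.Quotient.mk a f))).restrictScalars R
  exact ⟨e1.trans (e2.trans e3)⟩

theorem finitePresentation_trunc_cLoc (hI : I.FG) (f : A) (k : ℕ)
    [Algebra.FinitePresentation R (A ⧸ (I ^ k).map (algebraMap R A))] :
    Algebra.FinitePresentation R (CLoc I f ⧸ (I ^ k).map (algebraMap R (CLoc I f))) := by
  obtain ⟨e⟩ := exists_equiv_trunc_cLoc hI f k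
  haveI : Algebra.FinitePresentation (A ⧸ (I ^ k).map (algebraMap R A))
      (Localization.Away (Ideal.Quotient.mk ((I ^ k).map (algebraMap R A)) f)) :=
    IsLocalization.Away.finitePresentation (Ideal.Quotient.mk ((I ^ k).map (algebraMap R A)) f)
  haveI : Algebra.FinitePresentation R (Localization.Away (Ideal.Quotient.mk ((I ^ k).map (algebraMap R A)) f)) :=
    Algebra.FinitePresentation.trans R (A ⧸ (I ^ k).map (algebraMap R A)) _
  exact Algebra.FinitePresentation.equiv e.symm

theorem finiteType_trunc_cLoc (hI : I.FG) (f : A) (k : ℕ)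
    [Algebra.FiniteType R (A ⧸ (I ^ k).map (algebraMap R A))] :
    Algebra.FiniteType R (CLoc I f ⧸ (I ^ k).map (algebraMap R (CLoc I f))) := by
  obtain ⟨e⟩ := exists_equiv_trunc_cLoc hI f k
  haveI : Algebra.FiniteType (A ⧸ (I ^ k).map (algebraMap R A))
      (Localization.Away (Ideal.Quotient.mk ((I ^ k).map (algebraMap R A)) f)) :=
    IsLocalization.finiteType_of_monoid_fg (Submonoid.powers (Ideal.Quotient.mk ((I ^ k).map (algebraMap R A)) f)) _
  haveI : Algebra.FiniteType R (Localization.Away (Ideal.Quotient.mk ((I ^ k).map (algebraMap R A)) f)) :=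
    Algebra.FiniteType.trans (S := A ⧸ (I ^ k).map (algebraMap R A)) inferInstance inferInstance
  exact ‹Algebra.FiniteType R (Localization.Away _)›.equiv e.symm

section Cover

variable (hI : I.FG) {r : ℕ} (f : Fin r → A) (hf : Ideal.span (Set.range f) = ⊤) (k : ℕ)

include hf in
theorem span_mk_eq_top : Ideal.span (Set.range fun i => Ideal.Quotient.mk ((I ^ k).map (algebraMap R A)) (f i)) = ⊤ := by
  have : Set.range (fun i => Ideal.Quotient.mk ((I ^ k).map (algebraMap R A)) (f i)) =
      Ideal.Quotient.mk ((I ^ k).map (algebraMap R A)) '' Set.range f := (Set.range_comp _ f)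
  rw [this, ← Ideal.map_span, hf, Ideal.map_top]

include hI hf in
theorem finitePresentation_trunc_of_cover
    (h : ∀ i, Algebra.FinitePresentation R (CLoc I (f i) ⧸ (I ^ k).map (algebraMap R (CLoc I (f i))))) :
    Algebra.FinitePresentation R (A ⧸ (I ^ k).map (algebraMap R A)) := by
  rw [← RingHom.finitePresentation_algebraMap]
  refine RingHom.finitePresentation_ofLocalizationSpanTarget _ _ (span_mk_eq_top f hf k) ?_
  rintro ⟨_, i, rfl⟩
  rw [← IsScalarTower.algebraMap_eq, RingHom.finitePresentation_algebraMap]
  obtain ⟨e⟩ := exists_equiv_trunc_cLoc hI (f i) k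
  haveI := h i
  exact Algebra.FinitePresentation.equiv e

include hI hf in
theorem finiteType_trunc_of_cover
    (h : ∀ i, Algebra.FiniteType R (CLoc I (f i) ⧸ (I ^ k).map (algebraMap R (CLoc I (f i))))) :
    Algebra.FiniteType R (A ⧸ (I ^ k).map (algebraMap R A)) := by
  rw [← RingHom.finiteType_algebraMap]
  refine RingHom.finiteType_ofLocalizationSpanTarget _ _ (span_mk_eq_top f hf k) ?_
  rintro ⟨_, i, rfl⟩
  rw [← IsScalarTower.algebraMap_eq, RingHom.finiteType_algebraMap]
  obtain ⟨e⟩ := exists_equiv_trunc_cLoc hI (f i) k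
  exact (h i).equiv e

end Cover

theorem complete_cLoc (hI : I.FG) (f : A) : IsAdicComplete (I.map (algebraMap R (CLoc I f))) (CLoc I f) := by
  have h := Adic7.isAdicComplete_completion (I.map (algebraMap R (Localization.Away f))) (hI.map _)
  rwa [Ideal.map_map, ← IsScalarTower.algebraMap_eq] at h

/-- The truncation of an algebra topologically of finite type is of finite type. -/
theorem finiteType_trunc (hI : I.FG) (hA : TopFiniteType R I A) (k : ℕ) :
    Algebra.FiniteType R (A ⧸ (I ^ k).map (algebraMap R A)) := by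
  obtain ⟨n, φ, hφ⟩ := hA
  refine Algebra.FiniteType.of_surjective
    ((Ideal.Quotient.mkₐ R _).comp (φ.comp (IsScalarTower.toAlgHom R (MvPolynomial (Fin n) R) (RPow R I n)))) fun y => ?_
  obtain ⟨a, rfl⟩ := Ideal.Quotient.mk_surjective y
  obtain ⟨b, rfl⟩ := hφ a
  obtain ⟨p, hp⟩ := exists_sub_mem_map_pow hI b k
  refine ⟨p, (Ideal.Quotient.eq.mpr ?_).symm⟩
  have hφI : ((I ^ k).map (algebraMap R (RPow R I n))).map φ.toRingHom = (I ^ k).map (algebraMap R A) := by
    rw [Ideal.map_map]; exact congrArg (Ideal.map · (I ^ k)) φ.comp_algebraMap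
  rw [← hφI]
  have := Ideal.mem_map_of_mem φ.toRingHom hp
  simpa using this

/-- Flat modules over rings without `I`-power torsion have none. -/
theorem noPowTorsion_of_flat' (hI : I.FG) (hA : NoPowTorsion I A) (M : Type u) [AddCommGroup M] [Module A M]
    [Module R M] [IsScalarTower R A M] [Module.Flat A M] : NoPowTorsion I M := by
  classical
  intro x k hx
  obtain ⟨S, hS⟩ := hI.pow (n := k)
  let f : A →ₗ[A] (S → A) := LinearMap.pi fun a => LinearMap.mulLeft A (algebraMap R A (a : R))
  have hf : Function.Injective f := fun r r' h => by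
    refine sub_eq_zero.mp (hA _ k fun a ha => ?_)
    rw [← hS] at ha
    induction ha using Submodule.span_induction with
    | mem a ha =>
      have : algebraMap R A a * r = algebraMap R A a * r' := congrFun h ⟨a, ha⟩
      rw [Algebra.smul_def, mul_sub, this, sub_self]
    | zero => exact zero_smul _ _
    | add a b _ _ ha hb => rw [add_smul, ha, hb, add_zero]
    | smul c a _ ha => rw [smul_assoc, ha, smul_zero]
  have hinj := Module.Flat.rTensor_preserves_injective_linearMap (M := M) f hf
  have hf1 : f 1 = ∑ a : S, algebraMap R A (a : R) • (Pi.single a (1 : A) : S → A) := by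
    funext b
    simp [f, Pi.single_apply, Finset.sum_apply, Algebra.algebraMap_eq_smul_one]
  have h0 : f.rTensor M (1 ⊗ₜ[A] x) = 0 := by
    rw [LinearMap.rTensor_tmul, hf1, TensorProduct.sum_tmul]
    refine Finset.sum_eq_zero fun a _ => ?_
    rw [TensorProduct.smul_tmul, algebraMap_smul, hx a (hS ▸ Submodule.subset_span a.2), TensorProduct.tmul_zero]
  have := hinj (h0.trans (map_zero _).symm)
  simpa using congrArg (TensorProduct.lid A M) this

end Groth.Agent.Frg7
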