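import Groth.Agent.Frg7.Local
import Groth.Agent.Hensel.IntegralStrict
import Groth.Agent.VarDim.Basic

/-!
# Rig-points: one-dimensional admissible domains over a complete valuation ring of height one
-/

universe u

noncomputable section

namespace Groth.Agent.Frg7

open AdicRing IsLocalRing

variable {R : Type u} [CommRing R] [IsDomain R] [ValuationRing R] [Ring.KrullDimLE 1 R]
  {t : R} (ht : t ≠ 0) [hc : IsAdicComplete (Ideal.span {t}) R]

include ht hc in
theorem isBase : IsBase R (Ideal.span {t}) :=
  ⟨hc, Or.inr ⟨inferInstance, inferInstance, inferInstance, t, ht, rfl⟩⟩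

theorem mem_radical_of_mem {a : R} (ha : a ∈ maximalIdeal R) (ht : t ≠ 0) : a ∈ (Ideal.span {t}).radical := by
  rw [Ideal.radical_eq_sInf, Submodule.mem_sInf]
  intro P hPmem
  obtain ⟨hP, hPp⟩ := (hPmem : Ideal.span {t} ≤ P ∧ Ideal.IsPrime P)
  have hmax : Ideal.IsMaximal P := Ideal.IsPrime.isMaximal_of_ne_bot hPp fun h =>
    ht ((Submodule.mem_bot R).mp (h ▸ hP (Ideal.mem_span_singleton_self t)))
  rwa [IsLocalRing.eq_maximalIdeal hmax]

include ht hc in
theorem henselian : HenselianLocalRing R := by
  refine Hensel.henselianLocalRing_of_radical_eq R (Ideal.span {t}) (le_antisymm ?_ fun a ha => mem_radical_of_mem ha ht)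
  exact (maximalIdeal.isMaximal R).isPrime.radical_le_iff.mpr
    ((Ideal.span_singleton_le_iff_mem _).mpr (mem_maximalIdeal_of_isAdicComplete hc))

include ht hc in
theorem ringKrullDim_eq_one : ringKrullDim R = 1 := by
  refine le_antisymm Order.KrullDimLE.krullDim_le ?_
  by_contra! h
  have h0 : Ring.KrullDimLE 0 R := ⟨ENat.WithBot.lt_add_one_iff.mp (by rw [Nat.cast_zero, zero_add]; exact h)⟩
  have : (⊥ : Ideal R).IsMaximal := (Ideal.isPrime_bot).isMaximal'
  exact ht ((Submodule.mem_bot R).mp
    (IsLocalRing.eq_maximalIdeal this ▸ mem_maximalIdeal_of_isAdicComplete hc))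

include ht hc in
theorem topFiniteType_self : TopFiniteType R (Ideal.span {t}) R := by
  haveI : IsAdicComplete ((Ideal.span {t}).map (algebraMap R R)) R := by
    rwa [Algebra.algebraMap_self, Ideal.map_id]
  exact topFiniteType_of_finiteType (isBase ht)

include ht hc in
/-- A finite type algebra over the residue rings with only maximal primes is finite. -/
theorem finite_of_forall_isMaximal (Q : Type u) [CommRing Q] [Algebra R Q] [Algebra.FiniteType R Q]
    (htQ : algebraMap R Q t = 0) (hQ : ∀ P : Ideal Q, P.IsPrime → P.IsMaximal) : Module.Finite R Q := by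
  haveI : Algebra.IsIntegral R Q := ⟨fun x => by
    set 𝔪 := (maximalIdeal R).map (algebraMap R Q)
    have hnil : ∀ y ∈ 𝔪, IsNilpotent y := by
      intro y hy
      have : 𝔪 ≤ nilradical Q := Ideal.map_le_iff_le_comap.mpr fun a ha => by
        obtain ⟨k, hk⟩ := mem_radical_of_mem ha ht
        obtain ⟨b, hb⟩ := Ideal.mem_span_singleton'.mp hk
        exact mem_nilradical.mpr ⟨k, by rw [← map_pow, ← hb, map_mul, htQ, mul_zero]⟩
      exact this hy
    let Qk := Q ⧸ 𝔪
    letI : Algebra (ResidueField R) Qk := (Ideal.quotientMap 𝔪 (algebraMap R Q) Ideal.le_comap_map).toAlgebra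
    haveI : IsScalarTower R (ResidueField R) Qk := IsScalarTower.of_algebraMap_eq fun r => rfl
    haveI : Algebra.FiniteType (ResidueField R) Qk := Algebra.FiniteType.of_restrictScalars_finiteType R _ _
    haveI : Ring.KrullDimLE 0 Qk := Ring.KrullDimLE.mk₀ fun P hP => by
      have h1 := hQ (P.comap (Ideal.Quotient.mk 𝔪)) inferInstance
      exact (Ideal.map_eq_top_or_isMaximal_of_surjective (Ideal.Quotient.mk 𝔪) Ideal.Quotient.mk_surjective h1).resolve_left
        (by rw [Ideal.map_comap_of_surjective _ Ideal.Quotient.mk_surjective]; exact hP.ne_top) |>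
        fun h => by rwa [Ideal.map_comap_of_surjective _ Ideal.Quotient.mk_surjective] at h
    haveI : Module.Finite (ResidueField R) Qk := Module.finite_iff_krullDimLE_zero _ _ |>.mpr inferInstance
    haveI : Module.Finite R Qk := Module.Finite.trans (ResidueField R) Qk
    obtain ⟨p, hp, hpx⟩ := Algebra.IsIntegral.isIntegral (R := R) (Ideal.Quotient.mk 𝔪 x)
    rw [← Polynomial.aeval_def, ← Ideal.Quotient.mkₐ_eq_mk R, Polynomial.aeval_algHom_apply, Ideal.Quotient.mkₐ_eq_mk,
      Ideal.Quotient.eq_zero_iff_mem] at hpx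
    obtain ⟨N, hN⟩ := hnil _ hpx
    exact ⟨p ^ N, hp.pow N, by rw [← Polynomial.aeval_def, map_pow, hN]⟩⟩
  exact Algebra.IsIntegral.finite

include ht hc in
/-- A complete module with finite reduction is finite. -/
theorem finite_of_finite_quotient (M : Type u) [AddCommGroup M] [Module R M] [IsHausdorff (Ideal.span {t}) M]
    [Module.Finite R (M ⧸ (Ideal.span {t} • ⊤ : Submodule R M))] : Module.Finite R M := by
  obtain ⟨s, π, hπ⟩ := Module.Finite.exists_fin' R (M ⧸ (Ideal.span {t} • ⊤ : Submodule R M))
  choose m hm using fun i : Fin s => Submodule.mkQ_surjective _ (π (Pi.single i 1))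
  let f : (Fin s → R) →ₗ[R] M := Fintype.linearCombination R m
  haveI : IsPrecomplete (Ideal.span {t}) (Fin s → R) := Adic7.isPrecomplete_of_finite _ _
  refine Module.Finite.of_surjective f (surjective_of_mkQ_comp_surjective (I := Ideal.span {t}) ?_)
  have hf : (Ideal.span {t} • ⊤ : Submodule R M).mkQ ∘ₗ f = π := LinearMap.pi_ext' fun i => LinearMap.ext_ring (by
    show _ = π (Pi.single i 1)
    simp [f, Fintype.linearCombination_apply_single, ← hm])
  rw [hf]
  exact hπ

variable {B : Type u} [CommRing B] [Algebra R B]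

include ht hc in
theorem noPowTorsion_of_domain [IsDomain B] (h : algebraMap R B t ≠ 0) : NoPowTorsion (Ideal.span {t}) B := by
  intro x k hx
  have := hx (t ^ k) (Ideal.pow_mem_pow (Ideal.mem_span_singleton_self t) k)
  rw [Algebra.smul_def, map_pow, mul_eq_zero] at this
  exact this.resolve_left (pow_ne_zero k h)

include ht in
theorem algebraMap_ne_zero_of_admissible [Nontrivial B] (hB : Admissible R (Ideal.span {t}) B) :
    algebraMap R B t ≠ 0 := fun h => one_ne_zero (α := B) (hB.2 1 1 fun a ha => by
  rw [pow_one, Ideal.mem_span_singleton'] at ha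
  obtain ⟨b, rfl⟩ := ha
  rw [Algebra.smul_def, map_mul, h, mul_zero, zero_mul])

include ht hc in
theorem injective_algebraMap [IsDomain B] (h : algebraMap R B t ≠ 0) : Function.Injective (algebraMap R B) := by
  rw [injective_iff_map_eq_zero]
  intro a ha
  by_contra hne
  obtain ⟨k, e, he⟩ := exists_dvd_pow (mem_maximalIdeal_of_isAdicComplete hc) hne
  exact pow_ne_zero k h (by rw [← map_pow, he, map_mul, ha, zero_mul])

include ht hc in
/-- Topologically finite type algebras with zero-dimensional reduction are finite. -/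
theorem finite_of_dim_le_one [IsDomain B] (hB : TopFiniteType R (Ideal.span {t}) B) (h : algebraMap R B t ≠ 0)
    (hdim : ringKrullDim B ≤ 1) : Module.Finite R B := by
  have hI := IsBase.fg (isBase ht)
  haveI := finiteType_trunc hI hB 1
  haveI : Module.Finite R (B ⧸ (Ideal.span {t} ^ 1).map (algebraMap R B)) := by
    refine finite_of_forall_isMaximal ht _ ?_ fun P hP => ?_
    · exact Ideal.Quotient.eq_zero_iff_mem.mpr (Ideal.mem_map_of_mem _ (by rw [pow_one]; exact Ideal.mem_span_singleton_self t))
    · haveI : Ring.KrullDimLE 1 B := ⟨hdim⟩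
      have hne : P.comap (Ideal.Quotient.mk _) ≠ ⊥ := fun hb => h (by
        rw [← Submodule.mem_bot B, ← hb, Ideal.mem_comap,
          Ideal.Quotient.eq_zero_iff_mem.mpr (Ideal.mem_map_of_mem _ (by rw [pow_one]; exact Ideal.mem_span_singleton_self t))]
        exact P.zero_mem)
      have hmax := (Ideal.IsPrime.comap (Ideal.Quotient.mk _) (K := P)).isMaximal_of_ne_bot hne
      exact (Ideal.map_eq_top_or_isMaximal_of_surjective (Ideal.Quotient.mk _) Ideal.Quotient.mk_surjective hmax).resolve_left
        (by rw [Ideal.map_comap_of_surjective _ Ideal.Quotient.mk_surjective]; exact hP.ne_top) |>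
        fun h => by rwa [Ideal.map_comap_of_surjective _ Ideal.Quotient.mk_surjective] at h
  haveI : IsHausdorff (Ideal.span {t}) B := (Frg7.isAdicComplete (isBase ht) hB B).toIsHausdorff
  haveI : Module.Finite R (B ⧸ (Ideal.span {t} • ⊤ : Submodule R B)) := by
    have e : (Ideal.span {t} • ⊤ : Submodule R B) = ((Ideal.span {t} ^ 1).map (algebraMap R B)).restrictScalars R := by
      rw [pow_one, Ideal.smul_top_eq_map]
    exact Module.Finite.equiv ((Submodule.Quotient.restrictScalarsEquiv R _).symm.trans (Submodule.quotEquivOfEq _ _ e.symm))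
  exact finite_of_finite_quotient ht B

include ht hc in
/-- A finite domain without torsion is local. -/
theorem isLocalRing_of_finite [IsDomain B] [Module.Finite R B] : IsLocalRing B := by
  haveI := henselian ht (R := R)
  exact Hensel.isLocalRing_of_isIntegral_domain R B

include ht hc in
/-- A finite domain without torsion is one-dimensional. -/
theorem ringKrullDim_of_finite [IsDomain B] [Module.Finite R B] (h : algebraMap R B t ≠ 0) : ringKrullDim B = 1 := by
  haveI : FaithfulSMul R B := (faithfulSMul_iff_algebraMap_injective R B).mpr (injective_algebraMap ht h)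
  rw [VarDim.ringKrullDim_eq_of_isIntegral (R := R), ringKrullDim_eq_one ht]

include ht hc in
/-- Finite algebras without torsion are admissible. -/
theorem admissible_of_finite [Module.Finite R B] (h : NoPowTorsion (Ideal.span {t}) B) :
    Admissible R (Ideal.span {t}) B := by
  have hR := isBase (R := R) ht
  have hcB : IsAdicComplete (Ideal.span {t}) B := Frg7.isAdicComplete hR (topFiniteType_self ht) B
  haveI : IsAdicComplete ((Ideal.span {t}).map (algebraMap R B)) B :=
    (IsAdicComplete.map_algebraMap_iff (Ideal.span {t}) B).mpr hcB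
  haveI : Algebra.FiniteType R (B ⧸ (Ideal.span {t}).map (algebraMap R B)) :=
    Algebra.FiniteType.of_surjective (Ideal.Quotient.mkₐ R _) Ideal.Quotient.mk_surjective
  obtain ⟨n, φ, hφ⟩ := topFiniteType_of_finiteType hR (A := B)
  refine ⟨⟨n, φ, hφ, (nice_rPow hR n).1.fg (RingHom.ker φ.toRingHom) fun x k hx => h (φ x) k fun a ha => ?_⟩, h⟩
  rw [← map_smul]
  exact hx a ha

/-- In a local integrally closed domain `x` or `x⁻¹` lies, if `x` is a root of a polynomial with a unit
coefficient. -/
theorem exists_algebraMap_eq_or_inv {O L : Type*} [CommRing O] [IsDomain O] [IsLocalRing O] [IsIntegrallyClosed O]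
    [Field L] [Algebra O L] [IsFractionRing O L] (x : L) :
    ∀ (n : ℕ) (a : ℕ → O), ∑ i ∈ Finset.range (n + 1), algebraMap O L (a i) * x ^ i = 0 →
      (∃ i ≤ n, IsUnit (a i)) → ∃ y : O, algebraMap O L y = x ∨ algebraMap O L y = x⁻¹ := by
  intro n
  induction n with
  | zero =>
    intro a h ⟨i, hi, hu⟩
    rw [Nat.le_zero] at hi
    subst hi
    rw [Finset.sum_range_one, pow_zero, mul_one, map_eq_zero_iff _ (IsFractionRing.injective O L)] at h
    exact absurd (h ▸ hu) not_isUnit_zero
  | succ n ih =>
    intro a h hunit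
    have hint : IsIntegral O (algebraMap O L (a (n + 1)) * x) := by
      refine ⟨Polynomial.X ^ (n + 1) + ∑ i ∈ Finset.range (n + 1),
        Polynomial.C (a i * a (n + 1) ^ (n - i)) * Polynomial.X ^ i, Polynomial.monic_X_pow_add ?_, ?_⟩
      · refine (Polynomial.degree_sum_le _ _).trans_lt ((Finset.sup_lt_iff (WithBot.bot_lt_coe _)).mpr fun i hi => ?_)
        exact (Polynomial.degree_C_mul_X_pow_le i _).trans_lt (WithBot.coe_lt_coe.mpr (Finset.mem_range.mp hi))
      · rw [← Polynomial.aeval_def, map_add, map_sum, map_pow, Polynomial.aeval_X]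
        have h' := congrArg (algebraMap O L (a (n + 1)) ^ n * ·) h
        simp only [mul_zero, Finset.mul_sum] at h'
        rw [Finset.sum_range_succ, add_comm] at h'
        refine Eq.trans ?_ h'
        refine congrArg₂ (· + ·) (by ring) (Finset.sum_congr rfl fun i hi => ?_)
        have hni : n = (n - i) + i := (Nat.sub_add_cancel (Nat.lt_succ_iff.mp (Finset.mem_range.mp hi))).symm
        rw [map_mul, Polynomial.aeval_C, map_pow, Polynomial.aeval_X, map_mul, map_pow, mul_pow]
        rw [show algebraMap O L (a (n + 1)) ^ n = algebraMap O L (a (n + 1)) ^ (n - i) * algebraMap O L (a (n + 1)) ^ i by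
          rw [← pow_add, ← hni]]
        ring
    obtain ⟨y, hy⟩ := IsIntegrallyClosed.isIntegral_iff.mp hint
    by_cases hu : IsUnit (a (n + 1))
    · obtain ⟨v, hv⟩ := hu.exists_left_inv
      refine ⟨v * y, Or.inl ?_⟩
      rw [map_mul, hy, ← mul_assoc, ← map_mul, hv, map_one, one_mul]
    by_cases hy' : IsUnit y
    · obtain ⟨v, hv⟩ := hy'.exists_left_inv
      refine ⟨v * a (n + 1), Or.inr (eq_inv_of_mul_eq_one_left ?_)⟩
      rw [map_mul, mul_assoc, ← hy, ← map_mul, hv, map_one]
    refine ih (Function.update a n (a n + y)) ?_ ?_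
    · rw [Finset.sum_range_succ, Finset.sum_range_succ] at h
      rw [Finset.sum_range_succ, Function.update_self, map_add, hy,
        Finset.sum_congr rfl (g := fun i => algebraMap O L (a i) * x ^ i) fun i hi => by
          rw [Function.update_of_ne (Finset.mem_range.mp hi).ne]]
      linear_combination h
    · obtain ⟨i, hi, hiu⟩ := hunit
      have hne : i ≠ n + 1 := fun e => hu (e ▸ hiu)
      refine ⟨i, by omega, ?_⟩
      by_cases hin : i = n
      · subst hin
        rw [Function.update_self]
        by_contra hns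
        exact (maximalIdeal.isMaximal O).ne_top (Ideal.eq_top_of_isUnit_mem _
          (by have := sub_mem ((mem_maximalIdeal _).mpr hns) ((mem_maximalIdeal y).mpr hy'); rwa [add_sub_cancel_right] at this) hiu)
      · rwa [Function.update_of_ne hin]

include ht hc in
/-- The integral closure of `R` in an algebraic extension of its fraction field. -/
theorem isIntegral_or_isIntegral_inv (L : Type u) [Field L] [Algebra R L] [Algebra (FractionRing R) L]
    [IsScalarTower R (FractionRing R) L] [Algebra.IsAlgebraic (FractionRing R) L] (x : L) :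
    IsIntegral R x ∨ IsIntegral R x⁻¹ := by
  classical
  haveI : Algebra.IsAlgebraic R L := (IsFractionRing.comap_isAlgebraic_iff (A := R) (K := FractionRing R) (C := L)).mpr ‹_›
  haveI : FaithfulSMul R L := (faithfulSMul_iff_algebraMap_injective R L).mpr <| by
    rw [IsScalarTower.algebraMap_eq R (FractionRing R) L]
    exact (algebraMap (FractionRing R) L).injective.comp (IsFractionRing.injective R _)
  let O := integralClosure R L
  haveI : IsFractionRing O L := integralClosure.isFractionRing_of_algebraic
    fun r hr => (map_eq_zero_iff _ (FaithfulSMul.algebraMap_injective R L)).mp hr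
  haveI : IsIntegrallyClosed O := (isIntegrallyClosed_iff L).mpr fun {z} hz =>
    ⟨⟨z, isIntegral_trans (R := R) (A := O) z hz⟩, rfl⟩
  haveI : IsLocalRing O := by
    haveI := henselian ht (R := R)
    exact Hensel.isLocalRing_of_isIntegral_domain R O
  obtain ⟨p, hp0, hpx⟩ := Algebra.IsAlgebraic.isAlgebraic (R := R) x
  obtain ⟨d, hd, hdvd⟩ := exists_mem_forall_dvd (p.support.image p.coeff)
    (by simpa using hp0)
  obtain ⟨i₀, hi₀, rfl⟩ := Finset.mem_image.mp hd
  have hd0 : p.coeff i₀ ≠ 0 := Polynomial.mem_support_iff.mp hi₀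
  have hdiv : ∀ i, ∃ q, p.coeff i = p.coeff i₀ * q := fun i => by
    by_cases h : p.coeff i = 0
    · exact ⟨0, by rw [h, mul_zero]⟩
    · exact hdvd _ (Finset.mem_image_of_mem _ (Polynomial.mem_support_iff.mpr h))
  choose q hq using hdiv
  have hsum : ∑ i ∈ Finset.range (p.natDegree + 1), algebraMap O L (algebraMap R O (q i)) * x ^ i = 0 := by
    rw [Polynomial.aeval_eq_sum_range] at hpx
    rw [Finset.sum_congr rfl (g := fun i => algebraMap R L (p.coeff i₀) * (algebraMap R L (q i) * x ^ i))
        fun i _ => by rw [Algebra.smul_def, hq i, map_mul, mul_assoc],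
      ← Finset.mul_sum, mul_eq_zero, map_eq_zero_iff _ (FaithfulSMul.algebraMap_injective R L)] at hpx
    replace hpx := hpx.resolve_left hd0
    simpa only [← IsScalarTower.algebraMap_apply] using hpx
  have h1 : q i₀ = 1 := mul_left_cancel₀ hd0 ((hq i₀).symm.trans (mul_one _).symm)
  obtain ⟨y, hy | hy⟩ := exists_algebraMap_eq_or_inv x p.natDegree (fun i => algebraMap R O (q i)) hsum
    ⟨i₀, Polynomial.le_natDegree_of_mem_supp _ hi₀, by show IsUnit (algebraMap R O (q i₀)); rw [h1, map_one]; exact isUnit_one⟩
  · exact Or.inl (hy ▸ y.2)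
  · exact Or.inr (hy ▸ y.2)

end Groth.Agent.Frg7
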