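import Groth.Agent.Frg7.RigPoint

/-!
# Valuations and finite extensions of rig-points
-/

universe u

noncomputable section

namespace Groth.Agent.Frg7

open AdicRing IsLocalRing

variable {R : Type u} [CommRing R] [IsDomain R] [ValuationRing R] [Ring.KrullDimLE 1 R]
  {t : R} (ht : t ≠ 0) [hc : IsAdicComplete (Ideal.span {t}) R]

include ht hc in
/-- The integral closure of `R` in the fraction field of a finite domain without torsion. -/
theorem isIntegral_or_inv_fractionRing {B : Type u} [CommRing B] [IsDomain B] [Algebra R B] [Module.Finite R B]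
    (h : algebraMap R B t ≠ 0) (x : FractionRing B) : IsIntegral R x ∨ IsIntegral R x⁻¹ := by
  haveI : FaithfulSMul R B := (faithfulSMul_iff_algebraMap_injective R B).mpr (injective_algebraMap ht h)
  haveI : FaithfulSMul R (FractionRing B) := (faithfulSMul_iff_algebraMap_injective R _).mpr <| by
    rw [IsScalarTower.algebraMap_eq R B (FractionRing B)]
    exact (IsFractionRing.injective B _).comp (injective_algebraMap ht h)
  letI : Algebra (FractionRing R) (FractionRing B) := FractionRing.liftAlgebra R (FractionRing B)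
  haveI : Algebra.IsAlgebraic B (FractionRing B) := IsLocalization.isAlgebraic _ (nonZeroDivisors B)
  haveI : Algebra.IsAlgebraic R (FractionRing B) := Algebra.IsAlgebraic.trans R B _
  haveI : Algebra.IsAlgebraic (FractionRing R) (FractionRing B) :=
    (IsFractionRing.comap_isAlgebraic_iff (A := R) (K := FractionRing R) (C := FractionRing B)).mp ‹_›
  exact isIntegral_or_isIntegral_inv ht (FractionRing B) x

include ht hc in
theorem valuationRing_integralClosure {B : Type u} [CommRing B] [IsDomain B] [Algebra R B] [Module.Finite R B]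
    (h : algebraMap R B t ≠ 0) : ValuationRing (integralClosure B (FractionRing B)) := by
  refine { cond' := fun a b => ?_ }
  by_cases hb : (b : FractionRing B) = 0
  · exact ⟨0, Or.inl (Subtype.ext (by simp [hb]))⟩
  by_cases ha : (a : FractionRing B) = 0
  · exact ⟨0, Or.inr (Subtype.ext (by simp [ha]))⟩
  rcases isIntegral_or_inv_fractionRing ht h ((b : FractionRing B) / a) with hi | hi
  · exact ⟨⟨_, hi.tower_top⟩, Or.inl (Subtype.ext (mul_div_cancel₀ _ ha))⟩
  · rw [inv_div] at hi
    exact ⟨⟨_, hi.tower_top⟩, Or.inr (Subtype.ext (mul_div_cancel₀ _ hb))⟩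

include ht hc in
/-- Integrality is tested by the norm. -/
theorem isIntegral_iff_norm_mem (F : Type u) [Field F] [Algebra R F] [Algebra (FractionRing R) F]
    [IsScalarTower R (FractionRing R) F] [FiniteDimensional (FractionRing R) F] (x : F) :
    IsIntegral R x ↔ Algebra.norm (FractionRing R) x ∈ (algebraMap R (FractionRing R)).range := by
  refine ⟨fun hx => IsIntegrallyClosed.isIntegral_iff.mp (Algebra.isIntegral_norm (FractionRing R) hx), fun hN => ?_⟩
  by_contra hx
  have hx0 : x ≠ 0 := fun h => hx (h ▸ isIntegral_zero)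
  have hi : IsIntegral R x⁻¹ := (isIntegral_or_isIntegral_inv ht F x).resolve_left hx
  obtain ⟨r', hr'⟩ := IsIntegrallyClosed.isIntegral_iff.mp (Algebra.isIntegral_norm (FractionRing R) hi)
  obtain ⟨r, hr⟩ := hN
  have hru : IsUnit r' := by
    refine IsUnit.of_mul_eq_one r (IsFractionRing.injective R (FractionRing R) ?_)
    rw [map_mul, map_one, hr', hr, ← map_mul, inv_mul_cancel₀ hx0, map_one]
  set P := minpoly R x⁻¹
  have hK : minpoly (FractionRing R) x⁻¹ = P.map (algebraMap R (FractionRing R)) :=
    minpoly.isIntegrallyClosed_eq_field_fractions' (FractionRing R) hi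
  let e := Module.finrank (IntermediateField.adjoin (FractionRing R) {x⁻¹}) F
  have hint : IsIntegral (FractionRing R) x⁻¹ := Algebra.IsIntegral.isIntegral _
  have hN2 : algebraMap R (FractionRing R) (((-1) ^ P.natDegree * P.coeff 0) ^ e) =
      Algebra.norm (FractionRing R) x⁻¹ := by
    rw [Algebra.norm_eq_norm_adjoin (FractionRing R) x⁻¹]
    have h1 := Algebra.PowerBasis.norm_gen_eq_coeff_zero_minpoly (IntermediateField.adjoin.powerBasis hint)
    rw [IntermediateField.adjoin.powerBasis_gen, IntermediateField.adjoin.powerBasis_dim,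
      IntermediateField.minpoly_gen, hK, Polynomial.coeff_map,
      (minpoly.monic hi).natDegree_map] at h1
    rw [h1, map_pow, map_mul, map_pow, map_neg, map_one]
  have he : e ≠ 0 := (Module.finrank_pos (R := IntermediateField.adjoin (FractionRing R) {x⁻¹}) (M := F)).ne'
  have h0 : IsUnit (P.coeff 0) := by
    have h1 : r' = ((-1) ^ P.natDegree * P.coeff 0) ^ e :=
      IsFractionRing.injective R (FractionRing R) (hr'.trans hN2.symm)
    exact (IsUnit.mul_iff.mp ((isUnit_pow_iff he).mp (h1 ▸ hru))).2
  obtain ⟨v, hv⟩ := h0.exists_left_inv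
  refine hx ?_
  have h2 : x⁻¹ * Polynomial.aeval x⁻¹ P.divX + algebraMap R F (P.coeff 0) = 0 := by
    have h3 := congrArg (Polynomial.aeval x⁻¹) P.X_mul_divX_add
    rw [map_add, map_mul, Polynomial.aeval_X, Polynomial.aeval_C, minpoly.aeval] at h3
    exact h3
  have h5 : algebraMap R F v * algebraMap R F (P.coeff 0) = 1 := by rw [← map_mul, hv, map_one]
  have h4 : x = -(algebraMap R F v * Polynomial.aeval x⁻¹ P.divX) := by
    have h6 := congrArg (fun z => x * algebraMap R F v * z) h2
    simp only [mul_zero, mul_add] at h6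
    linear_combination h6 - x * h5 - algebraMap R F v * Polynomial.aeval x⁻¹ P.divX * mul_inv_cancel₀ hx0
  have hae : IsIntegral R (Polynomial.aeval x⁻¹ P.divX) :=
    (integralClosure R F).aeval_coe ⟨x⁻¹, hi⟩ P.divX ▸ (Polynomial.aeval (⟨x⁻¹, hi⟩ : integralClosure R F) P.divX).2
  rw [h4]
  exact (isIntegral_algebraMap.mul hae).neg

include ht hc in
/-- The image of an algebra topologically of finite type in a finite domain. -/
theorem admissible_range {A B : Type u} [CommRing A] [Algebra R A] (hA : TopFiniteType R (Ideal.span {t}) A)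
    [CommRing B] [IsDomain B] [Algebra R B] [Module.Finite R B] (h : algebraMap R B t ≠ 0) (φ : A →ₐ[R] B) :
    Admissible R (Ideal.span {t}) φ.range ∧ IsLocalRing φ.range ∧ ringKrullDim φ.range = 1 := by
  have htC : algebraMap R φ.range t ≠ 0 := fun e => h (congrArg Subtype.val e)
  haveI : Algebra.IsIntegral R φ.range := ⟨fun x =>
    (isIntegral_algHom_iff φ.range.val Subtype.val_injective).mp (Algebra.IsIntegral.isIntegral (R := R) (x : B))⟩
  haveI : FaithfulSMul R φ.range := (faithfulSMul_iff_algebraMap_injective R _).mpr (injective_algebraMap ht htC)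
  have hdim : ringKrullDim φ.range = 1 := by
    rw [VarDim.ringKrullDim_eq_of_isIntegral (R := R), ringKrullDim_eq_one ht]
  obtain ⟨n, ψ, hψ⟩ := hA
  have hC : TopFiniteType R (Ideal.span {t}) φ.range :=
    ⟨n, φ.rangeRestrict.comp ψ, φ.rangeRestrict_surjective.comp hψ⟩
  haveI := finite_of_dim_le_one ht hC htC hdim.le
  exact ⟨admissible_of_finite ht (noPowTorsion_of_domain ht htC), isLocalRing_of_finite ht, hdim⟩

end Groth.Agent.Frg7
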