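import Groth.Agent.Frg7.SatCore
import Groth.Agent.Adic7.Lift
import Groth.Agent.AdicLib.Basic
import Groth.Agent.S0543
import Groth.Prelude.Def_W4bk4boschfrg79

/-!
# Saturated submodules over algebras topologically of finite type
-/

universe u

noncomputable section

namespace Groth.Agent.Frg7

open MvPolynomial IsLocalRing

set_option maxHeartbeats 1000000

section Dehom

variable {R : Type u} [CommRing R] [IsDomain R] [ValuationRing R] {t : R} {n : ℕ} {B : Type u} [CommRing B] [Algebra R B]
  (D : RedData R t n B) {m s : ℕ}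

include D in
/-- All saturated submodules are finitely generated. -/
theorem fg_of_saturated (ht : t ∈ maximalIdeal R) (ht0 : t ≠ 0)
    (N : Submodule (MvPolynomial (Fin m) B) (Fin s → MvPolynomial (Fin m) B))
    (hsat : ∀ (d : R) (x : Fin s → MvPolynomial (Fin m) B), d ≠ 0 → d • x ∈ N → x ∈ N) : N.FG := by
  classical
  let φ : MvPolynomial (Fin (m + 1)) B →ₐ[B] MvPolynomial (Fin m) B :=
    aeval (Fin.cases (1 : MvPolynomial (Fin m) B) X)
  have hφ : ∀ (k : ℕ) (β : Fin m →₀ ℕ) (b : B), φ (monomial (β.cons k) b) = monomial β b := fun k β b => by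
    rw [aeval_monomial, Finsupp.prod_fintype _ _ (fun i => pow_zero _), Fin.prod_univ_succ]
    simp only [Fin.cases_zero, one_pow, one_mul, Fin.cases_succ, Finsupp.cons_succ]
    rw [MvPolynomial.algebraMap_eq, monomial_eq, Finsupp.prod_fintype _ _ (fun i => pow_zero _)]
  have hφd : ∀ (d : R) (F : MvPolynomial (Fin (m + 1)) B), φ (d • F) = d • φ F := fun d F =>
    LinearMap.map_smul_of_tower φ.toLinearMap d F
  let N' : Submodule (MvPolynomial (Fin (m + 1)) B) (Fin s → MvPolynomial (Fin (m + 1)) B) :=
    { carrier := {F | (fun j => φ (F j)) ∈ N}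
      add_mem' := fun {a b} ha hb => by
        show (fun j => φ ((a + b) j)) ∈ N
        convert N.add_mem ha hb using 1
        funext j; simp
      zero_mem' := by
        show (fun j => φ ((0 : Fin s → MvPolynomial (Fin (m + 1)) B) j)) ∈ N
        convert N.zero_mem using 1
        funext j; simp
      smul_mem' := fun c F hF => by
        show (fun j => φ ((c • F) j)) ∈ N
        convert N.smul_mem (φ c) hF using 1
        funext j; simp }
  have hN' : ∀ F, F ∈ N' ↔ (fun j => φ (F j)) ∈ N := fun _ => Iff.rfl
  obtain ⟨S, hS, hgen⟩ := exists_finite_generating D ht N' ht0 fun d F hd hF => by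
    rw [hN'] at hF ⊢
    refine hsat d _ hd ?_
    convert hF using 1
    funext j
    exact (hφd d (F j)).symm
  refine ⟨S.image (fun F j => φ (F j)), le_antisymm (Submodule.span_le.mpr fun x hx => ?_) fun x hx => ?_⟩
  · simp only [Finset.coe_image, Set.mem_image, Finset.mem_coe] at hx
    obtain ⟨F, hF, rfl⟩ := hx
    exact hS F hF
  let e := Finset.univ.sup fun j => (x j).support.sup Finsupp.degree
  let F : Fin s → MvPolynomial (Fin (m + 1)) B := fun j =>
    ∑ β ∈ (x j).support, monomial (β.cons (e - Finsupp.degree β)) (coeff β (x j))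
  have hF : ∀ j, φ (F j) = x j := fun j => by
    simp only [F, map_sum, hφ]
    exact (x j).as_sum.symm
  have hFh : ∀ j, (F j).IsHomogeneous e := fun j => IsHomogeneous.sum _ _ _ fun β hβ => by
    refine isHomogeneous_monomial _ ?_
    have hle : Finsupp.degree β ≤ e :=
      (Finset.le_sup (f := Finsupp.degree) hβ).trans
        (Finset.le_sup (f := fun j => (x j).support.sup Finsupp.degree) (Finset.mem_univ j))
    rw [Finsupp.degree_eq_sum] at hle ⊢
    rw [Fin.sum_univ_succ, Finsupp.cons_zero]
    simp only [Finsupp.cons_succ, Finsupp.degree_eq_sum]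
    omega
  have hmem := hgen e F (by rw [hN']; simpa only [hF] using hx) hFh
  have key : ∀ G ∈ Submodule.span (MvPolynomial (Fin (m + 1)) B) (S : Set (Fin s → MvPolynomial (Fin (m + 1)) B)),
      (fun j => φ (G j)) ∈ Submodule.span (MvPolynomial (Fin m) B)
        (↑(S.image (fun F j => φ (F j))) : Set (Fin s → MvPolynomial (Fin m) B)) := by
    intro G hG
    induction hG using Submodule.span_induction with
    | mem G hG => exact Submodule.subset_span (Finset.mem_image_of_mem _ hG)
    | zero =>
      convert Submodule.zero_mem _ using 1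
      funext j; simp
    | add a b _ _ ha hb =>
      convert Submodule.add_mem _ ha hb using 1
      funext j; simp
    | smul c a _ ha =>
      convert Submodule.smul_mem _ (φ c) ha using 1
      funext j; simp
  simpa only [hF] using key F hmem

end Dehom

section Good

variable {R : Type u} [CommRing R] (I : Ideal R)

/-- Saturation with respect to the powers of `I`. -/
def IsSat {C : Type u} [CommRing C] {M : Type u} [AddCommGroup M] [Module C M] [Module R M] (N : Submodule C M) : Prop :=
  ∀ (x : M) (k : ℕ), (∀ a ∈ I ^ k, a • x ∈ N) → x ∈ N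

/-- Saturated submodules of finite free modules are finitely generated. -/
def SatFG (C : Type u) [CommRing C] [Algebra R C] : Prop :=
  ∀ (s : ℕ) (N : Submodule C (Fin s → C)), IsSat I N → N.FG

variable {I}

theorem SatFG.fg {C : Type u} [CommRing C] [Algebra R C] (h : SatFG I C) {M : Type u} [AddCommGroup M] [Module C M]
    [Module R M] [IsScalarTower R C M] [Module.Finite C M] (N : Submodule C M) (hN : IsSat I N) : N.FG := by
  obtain ⟨s, π, hπ⟩ := Module.Finite.exists_fin' C M
  rw [← Submodule.map_comap_eq_of_surjective hπ N]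
  refine (h s _ fun x k hx => ?_).map π
  exact hN (π x) k fun a ha => by
    have := hx a ha
    rwa [Submodule.mem_comap, π.map_smul_of_tower] at this

theorem SatFG.of_surjective {C C' : Type u} [CommRing C] [Algebra R C] [CommRing C'] [Algebra R C']
    (h : SatFG I C) (f : C →ₐ[R] C') (hf : Function.Surjective f) : SatFG I C' := by
  intro s N hN
  algebraize [f.toRingHom]
  haveI : IsScalarTower R C C' := IsScalarTower.of_algebraMap_eq fun r => (f.commutes r).symm
  haveI : Module.Finite C C' := Module.Finite.of_surjective (Algebra.linearMap C C') hf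
  exact Submodule.FG.of_restrictScalars C (h.fg (N.restrictScalars C) hN)

theorem SatFG.of_isNoetherianRing (C : Type u) [CommRing C] [Algebra R C] [IsNoetherianRing C] : SatFG I C :=
  fun _ N _ => IsNoetherian.noetherian N

variable (I) in
/-- Saturated submodules are finitely generated for all polynomial rings. -/
def Good (C : Type u) [CommRing C] [Algebra R C] : Prop := ∀ m, SatFG I (MvPolynomial (Fin m) C)

theorem Good.of_surjective {C C' : Type u} [CommRing C] [Algebra R C] [CommRing C'] [Algebra R C']
    (h : Good I C) (f : C →ₐ[R] C') (hf : Function.Surjective f) : Good I C' := fun m =>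
  (h m).of_surjective (MvPolynomial.mapAlgHom f) (MvPolynomial.map_surjective f.toRingHom hf)

theorem Good.satFG_of_finiteType {C : Type u} [CommRing C] [Algebra R C] (h : Good I C)
    (C' : Type u) [CommRing C'] [Algebra R C'] [Algebra C C'] [IsScalarTower R C C'] [Algebra.FiniteType C C'] :
    SatFG I C' := by
  obtain ⟨m, f, hf⟩ := Algebra.FiniteType.iff_quotient_mvPolynomial''.mp ‹Algebra.FiniteType C C'›
  exact (h m).of_surjective (f.restrictScalars R) hf

theorem Good.satFG {C : Type u} [CommRing C] [Algebra R C] (h : Good I C) : SatFG I C :=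
  h.satFG_of_finiteType C

end Good

section RPow

open AdicRing

variable (R : Type u) [CommRing R]

/-- Restricted power series over a complete valuation ring of height one carry reduction data. -/
def rPowRedData [IsDomain R] [ValuationRing R] [Ring.KrullDimLE 1 R] (t : R) (ht : t ∈ maximalIdeal R) (ht0 : t ≠ 0)
    (n : ℕ) : RedData R t n (RPow R (Ideal.span {t}) n) :=
  let J : Ideal (MvPolynomial (Fin n) R) := (Ideal.span {t}).map (C : R →+* MvPolynomial (Fin n) R)
  have hJfg : J.FG := Ideal.FG.map ⟨{t}, by simp⟩ _
  { ρ := IsScalarTower.toAlgHom R (MvPolynomial (Fin n) R) (RPow R (Ideal.span {t}) n)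
    red := fun c hc => (Ideal.Quotient.lift (J ^ 1) (MvPolynomial.map (Ideal.Quotient.mk (Ideal.span {c}))) (by
      intro p hp
      have hle : J ≤ RingHom.ker (MvPolynomial.map (σ := Fin n) (Ideal.Quotient.mk (Ideal.span {c}))) := by
        rw [MvPolynomial.ker_map, Ideal.mk_ker]
        exact Ideal.map_mono ((Ideal.span_singleton_le_iff_mem _).mpr hc)
      exact hle (by rwa [pow_one] at hp))).comp (AdicCompletion.evalₐ J 1).toRingHom
    red_ρ := fun c hc p => by
      rw [RingHom.comp_apply, IsScalarTower.coe_toAlgHom', AlgHom.toRingHom_eq_coe, RingHom.coe_coe, AlgHom.commutes]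
      rfl
    ker_red := fun c hc b hb => by
      obtain ⟨p, hp⟩ := Adic7.exists_sub_algebraMap_mem J hJfg b 1
      rw [pow_one] at hp
      have hJt : J.map (algebraMap (MvPolynomial (Fin n) R) (AdicCompletion J (MvPolynomial (Fin n) R))) ≤
          Ideal.span {algebraMap R (AdicCompletion J (MvPolynomial (Fin n) R)) c} := by
        rw [show J.map (algebraMap (MvPolynomial (Fin n) R) (AdicCompletion J (MvPolynomial (Fin n) R))) =
          (Ideal.span {t}).map (algebraMap R _) from Ideal.map_map _ _, ← Set.image_singleton, ← Ideal.map_span]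
        exact Ideal.map_mono ((Ideal.span_singleton_le_iff_mem _).mpr hc)
      have h1 : MvPolynomial.map (Ideal.Quotient.mk (Ideal.span {c})) p = 0 := by
        have h2 : AdicCompletion.evalₐ J 1 (b - algebraMap _ _ p) = 0 := by
          have h3 : J.map (algebraMap (MvPolynomial (Fin n) R) (AdicCompletion J (MvPolynomial (Fin n) R))) ≤
              RingHom.ker (AdicCompletion.evalₐ J 1).toRingHom := by
            rw [Ideal.map_le_iff_le_comap]
            intro q hq
            show AdicCompletion.evalₐ J 1 (algebraMap _ _ q) = 0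
            rw [AlgHom.commutes, Ideal.Quotient.algebraMap_eq, Ideal.Quotient.eq_zero_iff_mem, pow_one]
            exact hq
          exact h3 hp
        rw [map_sub, sub_eq_zero] at h2
        have h4 := hb
        simp only [RingHom.comp_apply, AlgHom.toRingHom_eq_coe, RingHom.coe_coe] at h4
        rw [h2, AlgHom.commutes] at h4
        exact h4
      have h5 : p ∈ (Ideal.span {c}).map (C : R →+* MvPolynomial (Fin n) R) := by
        have : p ∈ RingHom.ker (MvPolynomial.map (Ideal.Quotient.mk (Ideal.span {c}))) := h1
        rwa [MvPolynomial.ker_map, Ideal.mk_ker] at this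
      have h6 := Ideal.mem_map_of_mem (algebraMap (MvPolynomial (Fin n) R) (AdicCompletion J (MvPolynomial (Fin n) R))) h5
      rw [Ideal.map_map, Ideal.map_span, Set.image_singleton] at h6
      have := add_mem (hJt hp) h6
      rwa [sub_add_cancel] at this
    complete := fun c hc hcm => by
      have h := Adic7.isAdicComplete_completion J hJfg
      rw [show J.map (algebraMap (MvPolynomial (Fin n) R) (AdicCompletion J (MvPolynomial (Fin n) R))) =
        (Ideal.span {t}).map (algebraMap R _) from Ideal.map_map _ _] at h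
      have hrad : c ∈ (Ideal.span {t}).radical := by
        rw [Ideal.radical_eq_sInf, Submodule.mem_sInf]
        intro P hPmem
        obtain ⟨hP, hPp⟩ := (hPmem : Ideal.span {t} ≤ P ∧ Ideal.IsPrime P)
        have hmax : Ideal.IsMaximal P := Ideal.IsPrime.isMaximal_of_ne_bot hPp fun h =>
          ht0 ((Submodule.mem_bot R).mp (h ▸ hP (Ideal.mem_span_singleton_self t)))
        rwa [IsLocalRing.eq_maximalIdeal hmax]
      obtain ⟨k, hk⟩ := hrad
      refine (AdicLib.iff_of_pow_le (c := 1) (d := k + 1) one_pos (Nat.succ_pos k) ?_ ?_).mp h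
      · rw [pow_one, ← Set.image_singleton, ← Ideal.map_span]
        exact Ideal.map_mono ((Ideal.span_singleton_le_iff_mem _).mpr hc)
      · rw [← Set.image_singleton, ← Ideal.map_span, ← Ideal.map_pow, Ideal.span_singleton_pow]
        refine Ideal.map_mono ((Ideal.span_singleton_le_iff_mem _).mpr ?_)
        rw [pow_succ]
        exact Ideal.mul_mem_right _ _ hk }

variable {R}

theorem mem_maximalIdeal_of_isAdicComplete [IsLocalRing R] {t : R} (hc : IsAdicComplete (Ideal.span {t}) R) :
    t ∈ maximalIdeal R := by
  rw [mem_maximalIdeal]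
  intro hu
  refine one_ne_zero (hc.toIsHausdorff.haus (1 : R) fun k => ?_)
  rw [SModEq.sub_mem, Ideal.span_singleton_eq_top.mpr hu, Ideal.top_pow, Ideal.smul_eq_mul, Ideal.top_mul]
  trivial

theorem exists_dvd_pow [IsDomain R] [IsLocalRing R] [Ring.KrullDimLE 1 R] {t : R} (ht : t ∈ maximalIdeal R) {d : R}
    (hd : d ≠ 0) : ∃ k, d ∣ t ^ k := by
  have hrad : t ∈ (Ideal.span {d}).radical := by
    rw [Ideal.radical_eq_sInf, Submodule.mem_sInf]
    intro P hPmem
    obtain ⟨hP, hPp⟩ := (hPmem : Ideal.span {d} ≤ P ∧ Ideal.IsPrime P)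
    have hmax : Ideal.IsMaximal P := Ideal.IsPrime.isMaximal_of_ne_bot hPp fun h =>
      hd ((Submodule.mem_bot R).mp (h ▸ hP (Ideal.mem_span_singleton_self d)))
    rwa [IsLocalRing.eq_maximalIdeal hmax]
  obtain ⟨k, hk⟩ := hrad
  exact ⟨k, Ideal.mem_span_singleton.mp hk⟩

theorem good_rPow {I : Ideal R} (hR : IsBase R I) (n : ℕ) : Good I (RPow R I n) := by
  obtain ⟨hc, ⟨hN, -⟩ | ⟨hD, hV, hK, t, ht0, rfl⟩⟩ := hR
  · intro m
    haveI : IsNoetherianRing (RPow R I n) := S0543.result _ _
    exact SatFG.of_isNoetherianRing _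
  haveI : ValuationRing R := { }
  have ht := mem_maximalIdeal_of_isAdicComplete hc
  intro m s N hN
  refine fg_of_saturated (rPowRedData R t ht ht0 n) ht ht0 N fun d x hd hx => ?_
  obtain ⟨k, e, he⟩ := exists_dvd_pow ht hd
  refine hN x k fun a ha => ?_
  rw [Ideal.span_singleton_pow, Ideal.mem_span_singleton'] at ha
  obtain ⟨b, rfl⟩ := ha
  rw [show b * t ^ k = (b * e) * d by rw [he]; ring, mul_smul, ← IsScalarTower.algebraMap_smul (MvPolynomial (Fin m) (RPow R (Ideal.span {t}) n)) (b * e)]
  exact N.smul_mem _ hx

theorem good_of_topFiniteType {I : Ideal R} (hR : IsBase R I) {A : Type u} [CommRing A] [Algebra R A]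
    (hA : TopFiniteType R I A) : Good I A := by
  obtain ⟨n, φ, hφ⟩ := hA
  exact (good_rPow hR n).of_surjective φ hφ

end RPow

end Groth.Agent.Frg7
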