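import Mathlib

/-!
# Saturated submodules over rings of restricted power series

Gröbner-style proof that saturated graded submodules of free modules over `B[ζ]`, `B` a ring of restricted
power series over a complete valuation ring of height one, are finitely generated.
-/

universe u

noncomputable section

namespace Groth.Agent.Frg7

open MvPolynomial

variable {S₁ S₂ : Type*} {A : Type*} [CommSemiring A]

theorem sumAlgEquiv_symm_monomial (β : S₁ →₀ ℕ) (α : S₂ →₀ ℕ) (a : A) :
    (sumAlgEquiv A S₁ S₂).symm (monomial β (monomial α a)) =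
      monomial (Finsupp.sumFinsuppEquivProdFinsupp.symm (β, α)) a := by
  have h1 : ∀ α : S₂ →₀ ℕ, (sumAlgEquiv A S₁ S₂).symm (C (monomial α a)) =
      monomial (α.mapDomain Sum.inr) a := fun α => by
    rw [monomial_eq, map_mul, map_mul, Finsupp.prod, map_prod, map_prod, sumAlgEquiv_symm_C_C]
    rw [monomial_eq, Finsupp.prod_mapDomain_index (fun _ => pow_zero _) (fun _ _ _ => pow_add _ _ _), Finsupp.prod]
    congr 1
    refine Finset.prod_congr rfl fun i _ => ?_
    rw [map_pow, map_pow, sumAlgEquiv_symm_C_X]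
  have h2 : (sumAlgEquiv A S₁ S₂).symm (monomial β 1) = monomial (β.mapDomain Sum.inl) 1 := by
    rw [monomial_eq, map_mul, Finsupp.prod, map_prod, map_one, map_one, one_mul]
    rw [monomial_eq, Finsupp.prod_mapDomain_index (fun _ => pow_zero _) (fun _ _ _ => pow_add _ _ _), Finsupp.prod,
      map_one, one_mul]
    refine Finset.prod_congr rfl fun i _ => ?_
    rw [map_pow, sumAlgEquiv_symm_X]
  have h3 : monomial β (monomial α a) = C (monomial α a) * monomial β (1 : MvPolynomial S₂ A) := by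
    rw [C_mul_monomial, mul_one]
  rw [h3, map_mul, h1, h2, monomial_mul, mul_one]
  congr 2
  ext (i | i)
  · simp [Finsupp.mapDomain_notin_range, Finsupp.mapDomain_apply Sum.inl_injective,
      Finsupp.sumFinsuppEquivProdFinsupp]
  · simp [Finsupp.mapDomain_notin_range, Finsupp.mapDomain_apply Sum.inr_injective, Finsupp.sumFinsuppEquivProdFinsupp]

theorem coeff_sumAlgEquiv_symm (q : MvPolynomial S₁ (MvPolynomial S₂ A)) (γ : S₁ ⊕ S₂ →₀ ℕ) :
    coeff γ ((sumAlgEquiv A S₁ S₂).symm q) =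
      coeff (Finsupp.sumFinsuppEquivProdFinsupp γ).2 (coeff (Finsupp.sumFinsuppEquivProdFinsupp γ).1 q) := by
  classical
  induction q using MvPolynomial.induction_on' with
  | monomial β p =>
    induction p using MvPolynomial.induction_on' with
    | monomial α a =>
      rw [sumAlgEquiv_symm_monomial, coeff_monomial, coeff_monomial, apply_ite (coeff (Finsupp.sumFinsuppEquivProdFinsupp γ).2),
        coeff_monomial, coeff_zero]
      simp only [Equiv.symm_apply_eq, Prod.ext_iff, ite_and]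
    | add p q hp hq => simp only [map_add, coeff_add, hp, hq]
  | add p q hp hq => simp only [map_add, coeff_add, hp, hq]

/-- Some element of a finite nonempty set divides all of them. -/
theorem exists_mem_forall_dvd {R : Type u} [CommRing R] [IsDomain R] [ValuationRing R] (s : Finset R)
    (hs : s.Nonempty) : ∃ d ∈ s, ∀ a ∈ s, d ∣ a := by
  classical
  induction hs using Finset.Nonempty.cons_induction with
  | singleton a => exact ⟨a, by simp, by simp⟩
  | cons a s ha hs ih =>
    obtain ⟨d, hd, hdiv⟩ := ih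
    rcases ValuationRing.dvd_total a d with h | h
    · refine ⟨a, by simp, fun b hb => ?_⟩
      rcases Finset.mem_cons.mp hb with rfl | hb
      · exact dvd_rfl
      · exact h.trans (hdiv b hb)
    · refine ⟨d, by simp [hd], fun b hb => ?_⟩
      rcases Finset.mem_cons.mp hb with rfl | hb
      · exact h
      · exact hdiv b hb

open IsLocalRing in
/-- The data making `B` behave like restricted power series in `n` variables over `R`. -/
structure RedData (R : Type u) [CommRing R] [IsLocalRing R] (t : R) (n : ℕ) (B : Type u) [CommRing B] [Algebra R B] where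
  ρ : MvPolynomial (Fin n) R →ₐ[R] B
  red : ∀ c : R, t ∈ Ideal.span {c} → (B →+* MvPolynomial (Fin n) (R ⧸ Ideal.span {c}))
  red_ρ : ∀ c hc p, red c hc (ρ p) = map (Ideal.Quotient.mk (Ideal.span {c})) p
  ker_red : ∀ c hc b, red c hc b = 0 → b ∈ Ideal.span {algebraMap R B c}
  complete : ∀ c, t ∈ Ideal.span {c} → c ∈ maximalIdeal R → IsAdicComplete (Ideal.span {algebraMap R B c}) B

variable {R : Type u} [CommRing R] [IsDomain R] [ValuationRing R] {t : R} {n : ℕ} {B : Type u} [CommRing B] [Algebra R B]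
  (D : RedData R t n B) {m : ℕ}

set_option maxHeartbeats 1000000

local notation "𝕊" => Fin m ⊕ Fin n

/-- Reduction of polynomials over `B`. -/
def redP (c : R) (hc : t ∈ Ideal.span {c}) :
    MvPolynomial (Fin m) B →+* MvPolynomial (Fin m ⊕ Fin n) (R ⧸ Ideal.span {c}) :=
  (sumAlgEquiv (R ⧸ Ideal.span {c}) (Fin m) (Fin n)).symm.toRingEquiv.toRingHom.comp (MvPolynomial.map (D.red c hc))

/-- Lifts of polynomials. -/
def liftP : MvPolynomial (Fin m ⊕ Fin n) R →+* MvPolynomial (Fin m) B :=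
  (MvPolynomial.map D.ρ.toRingHom).comp (sumAlgEquiv R (Fin m) (Fin n)).toRingEquiv.toRingHom

theorem coeff_redP (c : R) (hc : t ∈ Ideal.span {c}) (x : MvPolynomial (Fin m) B) (γ : 𝕊 →₀ ℕ) :
    coeff γ (redP D c hc x) = coeff (Finsupp.sumFinsuppEquivProdFinsupp γ).2
      (D.red c hc (coeff (Finsupp.sumFinsuppEquivProdFinsupp γ).1 x)) := by
  show coeff γ ((sumAlgEquiv _ _ _).symm (MvPolynomial.map (D.red c hc) x)) = _
  rw [coeff_sumAlgEquiv_symm, coeff_map]

theorem redP_liftP (c : R) (hc : t ∈ Ideal.span {c}) (p : MvPolynomial 𝕊 R) :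
    redP D c hc (liftP D p) = map (Ideal.Quotient.mk (Ideal.span {c})) p := by
  ext γ
  rw [coeff_redP, coeff_map]
  show coeff _ (D.red c hc (coeff _ (MvPolynomial.map D.ρ.toRingHom (sumAlgEquiv R (Fin m) (Fin n) p)))) = _
  rw [coeff_map]
  show coeff _ (D.red c hc (D.ρ _)) = _
  rw [D.red_ρ, coeff_map, ← coeff_sumAlgEquiv_symm, AlgEquiv.symm_apply_apply]

theorem liftP_smul (r : R) (p : MvPolynomial 𝕊 R) : liftP D (r • p) = r • liftP (m := m) D p := by
  have : liftP (m := m) D (C r) = C (algebraMap R B r) := by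
    show MvPolynomial.map D.ρ.toRingHom (sumAlgEquiv R (Fin m) (Fin n) (C r)) = _
    rw [sumAlgEquiv_C_inl, map_C]
    exact congrArg C (D.ρ.commutes r)
  rw [smul_eq_C_mul, map_mul, this, Algebra.smul_def, IsScalarTower.algebraMap_apply R B (MvPolynomial (Fin m) B),
    MvPolynomial.algebraMap_eq]

theorem exists_eq_smul_of_redP_eq_zero (c : R) (hc : t ∈ Ideal.span {c}) (x : MvPolynomial (Fin m) B)
    (hx : redP D c hc x = 0) : ∃ y, x = c • y := by
  have h : MvPolynomial.map (D.red c hc) x = 0 :=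
    (map_eq_zero_iff _ (sumAlgEquiv (R ⧸ Ideal.span {c}) (Fin m) (Fin n)).symm.injective).mp hx
  have hb : ∀ β, ∃ b, coeff β x = algebraMap R B c * b := fun β => by
    have := congrArg (coeff β) h
    rw [coeff_map, coeff_zero] at this
    obtain ⟨b, hb⟩ := Ideal.mem_span_singleton'.mp (D.ker_red c hc _ this)
    exact ⟨b, by rw [← hb, mul_comm]⟩
  choose b hb using hb
  refine ⟨∑ β ∈ x.support, monomial β (b β), ?_⟩
  conv_lhs => rw [x.as_sum]
  rw [Finset.smul_sum]
  refine Finset.sum_congr rfl fun β _ => ?_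
  rw [smul_monomial, hb β, Algebra.smul_def]

theorem redP_smul_self (c : R) (hc : t ∈ Ideal.span {c}) (y : MvPolynomial (Fin m) B) :
    redP D c hc (c • y) = 0 := by
  have h0 : redP (m := m) D c hc (algebraMap R _ c) = 0 := by
    have h : algebraMap R (MvPolynomial (Fin m) B) c = liftP (m := m) D (C c) := by
      have h1 := liftP_smul (m := m) D c 1
      rw [map_one, smul_eq_C_mul, mul_one, Algebra.smul_def, mul_one] at h1
      exact h1.symm
    rw [h, redP_liftP, map_C, Ideal.Quotient.eq_zero_iff_mem.mpr (Ideal.mem_span_singleton_self c), map_zero]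
  rw [Algebra.smul_def, map_mul, h0, zero_mul]

theorem exists_lift_congr (c : R) (hc : t ∈ Ideal.span {c}) (x : MvPolynomial (Fin m) B) :
    ∃ p y, x = liftP D p + c • y := by
  obtain ⟨p, hp⟩ := MvPolynomial.map_surjective (Ideal.Quotient.mk (Ideal.span {c})) Ideal.Quotient.mk_surjective
    (redP D c hc x)
  obtain ⟨y, hy⟩ := exists_eq_smul_of_redP_eq_zero D c hc (x - liftP D p)
    (by rw [map_sub, redP_liftP, hp, sub_self])
  exact ⟨p, y, by rw [← hy, add_sub_cancel]⟩

/-- Degree in the variables `ζ`. -/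
def degL (γ : 𝕊 →₀ ℕ) : ℕ := Finsupp.degree (Finsupp.sumFinsuppEquivProdFinsupp γ).1

theorem coeff_redP_homogeneousComponent (c : R) (hc : t ∈ Ideal.span {c}) (e : ℕ) (x : MvPolynomial (Fin m) B)
    (γ : 𝕊 →₀ ℕ) : coeff γ (redP D c hc (homogeneousComponent e x)) =
      if degL γ = e then coeff γ (redP D c hc x) else 0 := by
  rw [coeff_redP, coeff_homogeneousComponent]
  unfold degL
  split_ifs with h
  · rw [coeff_redP]
  · rw [map_zero, coeff_zero]

theorem degL_eq_of_coeff_ne_zero {c : R} {hc : t ∈ Ideal.span {c}} {e : ℕ} {x : MvPolynomial (Fin m) B}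
    (hx : x.IsHomogeneous e) {γ : 𝕊 →₀ ℕ} (h : coeff γ (redP D c hc x) ≠ 0) : degL γ = e := by
  by_contra hne
  have h1 := coeff_redP_homogeneousComponent D c hc e x γ
  rw [if_neg hne, homogeneousComponent_of_mem hx, if_pos rfl] at h1
  exact h h1

open IsLocalRing

variable (ht : t ∈ maximalIdeal R) {s : ℕ}

/-- Reduction modulo the maximal ideal, componentwise. -/
def redk (x : MvPolynomial (Fin m) B) : MvPolynomial (Fin m ⊕ Fin n) (R ⧸ maximalIdeal R) :=
  MvPolynomial.map (Ideal.Quotient.factor ((Ideal.span_singleton_le_iff_mem _).mpr ht))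
    (redP D t (Ideal.subset_span rfl) x)

theorem redk_liftP (p : MvPolynomial 𝕊 R) :
    redk D ht (liftP D p) = map (Ideal.Quotient.mk (maximalIdeal R)) p := by
  rw [redk, redP_liftP, map_map, Ideal.Quotient.factor_comp_mk]

theorem redk_add (x y : MvPolynomial (Fin m) B) : redk D ht (x + y) = redk D ht x + redk D ht y := by
  rw [redk, map_add, map_add, redk, redk]

theorem redk_smul {e : R} (he : e ∈ maximalIdeal R) (y : MvPolynomial (Fin m) B) : redk D ht (e • y) = 0 := by
  have h : algebraMap R (MvPolynomial (Fin m) B) e = liftP (m := m) D (C e) := by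
    have h1 := liftP_smul (m := m) D e 1
    rw [map_one, smul_eq_C_mul, mul_one, Algebra.smul_def, mul_one] at h1
    exact h1.symm
  rw [Algebra.smul_def, redk, map_mul, map_mul]
  have := redk_liftP (m := m) D ht (C e)
  rw [← h, map_C, Ideal.Quotient.eq_zero_iff_mem.mpr he, map_zero, redk] at this
  rw [this, zero_mul]

/-- Monomials of the free module of rank `s`, linearly ordered. -/
def key (μ : Fin s × (𝕊 →₀ ℕ)) :
    (MonomialOrder.lex (σ := Fin (m + n))).syn ×ₗ Fin s :=
  toLex ((MonomialOrder.lex (σ := Fin (m + n))).toSyn (Finsupp.equivMapDomain finSumFinEquiv μ.2), μ.1)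

theorem key_injective : Function.Injective (key (m := m) (n := n) (s := s)) := by
  rintro ⟨j, γ⟩ ⟨j', γ'⟩ h
  have := toLex.injective h
  simp only [Prod.mk.injEq, EmbeddingLike.apply_eq_iff_eq] at this
  exact Prod.ext this.2 ((Finsupp.equivCongrLeft finSumFinEquiv).injective this.1)

theorem key_add_lt {δ : 𝕊 →₀ ℕ} {μ μ' : Fin s × (𝕊 →₀ ℕ)} (h : key μ < key μ') :
    key (μ.1, δ + μ.2) < key (μ'.1, δ + μ'.2) := by
  simp only [key, Finsupp.equivMapDomain_eq_mapDomain, Finsupp.mapDomain_add, map_add, Prod.Lex.toLex_lt_toLex] at h ⊢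
  rcases h with h | ⟨h1, h2⟩
  · exact Or.inl (add_lt_add_right h _)
  · exact Or.inr ⟨by rw [h1], h2⟩

theorem exists_leading {A' : Type u} [CommRing A'] (x : Fin s → MvPolynomial 𝕊 A') (hx : x ≠ 0) :
    ∃ μ : Fin s × (𝕊 →₀ ℕ), coeff μ.2 (x μ.1) ≠ 0 ∧
      ∀ μ' : Fin s × (𝕊 →₀ ℕ), coeff μ'.2 (x μ'.1) ≠ 0 → key μ' ≤ key μ := by
  classical
  let S : Finset (Fin s × (𝕊 →₀ ℕ)) := Finset.univ.biUnion fun j => (x j).support.image (Prod.mk j)
  have hS : ∀ μ, μ ∈ S ↔ coeff μ.2 (x μ.1) ≠ 0 := by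
    rintro ⟨j, γ⟩
    simp [S, mem_support_iff]
  have hne : S.Nonempty := by
    obtain ⟨j, hj⟩ := Function.ne_iff.mp hx
    obtain ⟨γ, hγ⟩ := ne_zero_iff.mp hj
    exact ⟨(j, γ), (hS _).mpr hγ⟩
  obtain ⟨μ, hμ, hmax⟩ := S.exists_max_image key hne
  exact ⟨μ, (hS μ).mp hμ, fun μ' h => hmax μ' ((hS μ').mpr h)⟩

theorem redk_eq (p : MvPolynomial 𝕊 R) (y : MvPolynomial (Fin m) B) {e : R} (he : e ∈ maximalIdeal R) :
    redk D ht (liftP D p + e • y) = map (Ideal.Quotient.mk (maximalIdeal R)) p := by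
  rw [redk_add, redk_smul D ht he, add_zero, redk_liftP]

theorem redP_eq {c : R} (hc : t ∈ Ideal.span {c}) (p : MvPolynomial 𝕊 R) (y : MvPolynomial (Fin m) B) :
    redP D c hc (liftP D p + t • y) = map (Ideal.Quotient.mk (Ideal.span {c})) p := by
  obtain ⟨e', he'⟩ := Ideal.mem_span_singleton.mp hc
  rw [map_add, show t • y = c • (e' • y) by rw [smul_smul, ← he'], redP_smul_self, add_zero, redP_liftP]

theorem coeff_redk_homogeneousComponent (e : ℕ) (x : MvPolynomial (Fin m) B) (γ : 𝕊 →₀ ℕ) :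
    coeff γ (redk D ht (homogeneousComponent e x)) = if degL γ = e then coeff γ (redk D ht x) else 0 := by
  rw [redk, coeff_map, coeff_redP_homogeneousComponent, redk, coeff_map]
  split_ifs with h
  · rfl
  · exact map_zero _

theorem degL_add (a b : 𝕊 →₀ ℕ) : degL (a + b) = degL a + degL b := by
  unfold degL
  rw [show (Finsupp.sumFinsuppEquivProdFinsupp (a + b)).1 =
    (Finsupp.sumFinsuppEquivProdFinsupp a).1 + (Finsupp.sumFinsuppEquivProdFinsupp b).1 by
      ext; simp [Finsupp.sumFinsuppEquivProdFinsupp], map_add]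

theorem liftP_monomial (δ : 𝕊 →₀ ℕ) (a : R) : liftP D (monomial δ a) =
    monomial (Finsupp.sumFinsuppEquivProdFinsupp δ).1 (D.ρ (monomial (Finsupp.sumFinsuppEquivProdFinsupp δ).2 a)) := by
  show MvPolynomial.map D.ρ.toRingHom (sumAlgEquiv R (Fin m) (Fin n) (monomial δ a)) = _
  rw [show sumAlgEquiv R (Fin m) (Fin n) (monomial δ a) = monomial (Finsupp.sumFinsuppEquivProdFinsupp δ).1
    (monomial (Finsupp.sumFinsuppEquivProdFinsupp δ).2 a) by
      rw [← AlgEquiv.eq_symm_apply, sumAlgEquiv_symm_monomial, Equiv.symm_apply_apply], map_monomial]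
  rfl

variable (N : Submodule (MvPolynomial (Fin m) B) (Fin s → MvPolynomial (Fin m) B))

/-- Leading monomials of reductions of homogeneous elements of `N`. -/
def leads : Set (Fin s × (𝕊 →₀ ℕ)) :=
  {μ | ∃ x ∈ N, ∃ e, (∀ j, (x j).IsHomogeneous e) ∧ coeff μ.2 (redk D ht (x μ.1)) ≠ 0 ∧
    ∀ μ' : Fin s × (𝕊 →₀ ℕ), coeff μ'.2 (redk D ht (x μ'.1)) ≠ 0 → key μ' ≤ key μ}

theorem exists_minimal_leads : ∃ T : Finset (Fin s × (𝕊 →₀ ℕ)), (∀ μ ∈ T, μ ∈ leads D ht N) ∧
    ∀ μ ∈ leads D ht N, ∃ μ' ∈ T, μ'.1 = μ.1 ∧ μ'.2 ≤ μ.2 := by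
  classical
  let L : Fin s → Set (𝕊 →₀ ℕ) := fun j => {γ | (j, γ) ∈ leads D ht N}
  have hpwo : ∀ j, (L j).IsPWO := fun j => Set.isPWO_of_wellQuasiOrderedLE _
  have hfin : ∀ j, {γ | Minimal (· ∈ L j) γ}.Finite := fun j =>
    (setOfPred_minimal_antichain _).finite_of_partiallyWellOrderedOn ((hpwo j).mono fun _ h => h.1)
  refine ⟨Finset.univ.biUnion fun j => (hfin j).toFinset.image (Prod.mk j), ?_, ?_⟩
  · intro μ hμ
    simp only [Finset.mem_biUnion, Finset.mem_image, Set.Finite.mem_toFinset] at hμ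
    obtain ⟨j, -, γ, hγ, rfl⟩ := hμ
    exact hγ.1
  · rintro ⟨j, γ⟩ hμ
    obtain ⟨γ', hle, hmin⟩ := (hpwo j).exists_le_minimal (a := γ) hμ
    refine ⟨(j, γ'), ?_, rfl, hle⟩
    simp only [Finset.mem_biUnion, Finset.mem_image, Set.Finite.mem_toFinset]
    exact ⟨j, Finset.mem_univ _, γ', hmin, rfl⟩

/-- Monomials to be removed. -/
def Bad (c : R) (hc : t ∈ Ideal.span {c}) (z : Fin s → MvPolynomial (Fin m) B) (μ : Fin s × (𝕊 →₀ ℕ)) : Prop :=
  μ ∈ leads D ht N ∧ coeff μ.2 (redP D c hc (z μ.1)) ≠ 0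

section Division

variable {c : R} (hc : t ∈ Ideal.span {c}) {ι : Type} [Fintype ι] (μ0 : ι → Fin s × ((Fin m ⊕ Fin n) →₀ ℕ))
  (f : ι → Fin s → MvPolynomial (Fin m) B) (ef : ι → ℕ)

/-- Admissible multipliers in degree `e`. -/
def IsMult (e : ℕ) (g : ι → MvPolynomial (Fin m) B) : Prop :=
  ∀ i β, coeff β (g i) ≠ 0 → Finsupp.degree β + ef i = e

theorem isHomogeneous_comb {e : ℕ} {g : ι → MvPolynomial (Fin m) B} (hg : IsMult ef e g)
    (hfhom : ∀ i j, (f i j).IsHomogeneous (ef i)) (j : Fin s) : ((∑ i, g i • f i) j).IsHomogeneous e := by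
  simp only [Finset.sum_apply, Pi.smul_apply, smul_eq_mul]
  refine IsHomogeneous.sum _ _ _ fun i _ => ?_
  by_cases h : g i = 0
  · rw [h, zero_mul]; exact isHomogeneous_zero _ _ _
  · obtain ⟨β, hβ⟩ := ne_zero_iff.mp h
    have hle : ef i ≤ e := by have := hg i β hβ; omega
    have h1 : (g i).IsHomogeneous (e - ef i) := fun β' hβ' => by
      have := hg i β' hβ'
      rw [Finsupp.degree_eq_weight_one] at this
      show Finsupp.weight (fun _ => 1) β' = e - ef i
      omega
    have := h1.mul (hfhom i j)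
    rwa [Nat.sub_add_cancel hle] at this

theorem exists_step (hfhom : ∀ i j, (f i j).IsHomogeneous (ef i))
    (hunit : ∀ i, IsUnit (coeff (μ0 i).2 (redP D c hc (f i (μ0 i).1))))
    (hfle : ∀ i μ, coeff μ.2 (redP D c hc (f i μ.1)) ≠ 0 → key μ ≤ key (μ0 i))
    (hcover : ∀ μ ∈ leads D ht N, ∃ i, (μ0 i).1 = μ.1 ∧ (μ0 i).2 ≤ μ.2)
    (hnt : Nontrivial (R ⧸ Ideal.span {c}))
    {e : ℕ} {x : Fin s → MvPolynomial (Fin m) B} (hx : ∀ j, (x j).IsHomogeneous e)
    {μ : Fin s × (𝕊 →₀ ℕ)} (hμ : Bad D ht N c hc x μ) (hmax : ∀ μ', Bad D ht N c hc x μ' → key μ' ≤ key μ) :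
    ∃ g : ι → MvPolynomial (Fin m) B, IsMult ef e g ∧ ∀ μ', Bad D ht N c hc (x - ∑ i, g i • f i) μ' → key μ' < key μ := by
  classical
  obtain ⟨hμL, hμne⟩ := hμ
  obtain ⟨i, hi1, hi2⟩ := hcover _ hμL
  obtain ⟨δ, hδ⟩ := le_iff_exists_add.mp hi2
  obtain ⟨u, hu⟩ := (hunit i).exists_right_inv
  obtain ⟨a, ha⟩ := Ideal.Quotient.mk_surjective (coeff μ.2 (redP D c hc (x μ.1)) * u)
  have hdeg : degL δ + ef i = e := by
    have h1 : degL μ.2 = e := degL_eq_of_coeff_ne_zero D (hx μ.1) hμne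
    have h2 : degL (μ0 i).2 = ef i := degL_eq_of_coeff_ne_zero D (hfhom i _) (hunit i).ne_zero
    rw [hδ, degL_add, h2] at h1
    omega
  let g : ι → MvPolynomial (Fin m) B := fun i' => if i' = i then liftP D (monomial δ a) else 0
  refine ⟨g, fun i' β hβ => ?_, ?_⟩
  · by_cases h : i' = i
    · subst h
      rw [show g i' = liftP D (monomial δ a) from if_pos rfl, liftP_monomial, coeff_monomial] at hβ
      split_ifs at hβ with h'
      · rw [← h']; exact hdeg
      · exact absurd rfl hβ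
    · rw [show g i' = 0 from if_neg h, coeff_zero] at hβ
      exact absurd rfl hβ
  rintro ⟨l, ε⟩ ⟨hL, hne⟩
  have hred : coeff ε (redP D c hc ((x - ∑ i, g i • f i) l)) = coeff ε (redP D c hc (x l)) -
      coeff ε (monomial δ (Ideal.Quotient.mk (Ideal.span {c}) a) * redP D c hc (f i l)) := by
    simp only [g, Pi.sub_apply, Finset.sum_apply, Pi.smul_apply, smul_eq_mul, ite_mul, zero_mul,
      Finset.sum_ite_eq', Finset.mem_univ, if_true, map_sub, coeff_sub, map_mul]
    rw [redP_liftP, map_monomial]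
  simp only at hne
  rw [hred, coeff_monomial_mul'] at hne
  have hne' : (l, ε) ≠ μ := by
    rintro rfl
    refine hne ?_
    simp only at hi1 hδ ha
    subst hi1
    rw [if_pos (by rw [hδ]; exact le_add_self), hδ, add_tsub_cancel_right, ← hδ, ha, mul_assoc, mul_comm u, hu,
      mul_one, sub_self]
  by_cases hx0 : coeff ε (redP D c hc (x l)) = 0
  · rw [hx0, zero_sub, neg_ne_zero] at hne
    split_ifs at hne with hδ'
    · have hle' := hfle i (l, ε - δ) (fun h => hne (by rw [h, mul_zero]))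
      rcases lt_or_eq_of_le hle' with hlt | heq
      · have := key_add_lt (δ := δ) hlt
        rwa [show δ + (ε - δ) = ε from add_tsub_cancel_of_le hδ', add_comm δ, ← hδ, hi1] at this
      · have h2 : (l, ε - δ) = μ0 i := key_injective heq
        refine absurd (Prod.ext ?_ ?_) hne'
        · show l = μ.1
          rw [← hi1, ← h2]
        · show ε = μ.2
          rw [hδ, ← h2, tsub_add_cancel_of_le hδ']
    · exact absurd rfl hne
  · exact lt_of_le_of_ne (hmax _ ⟨hL, hx0⟩) fun h => hne' (key_injective h)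

theorem exists_division (hfhom : ∀ i j, (f i j).IsHomogeneous (ef i))
    (hunit : ∀ i, IsUnit (coeff (μ0 i).2 (redP D c hc (f i (μ0 i).1))))
    (hfle : ∀ i μ, coeff μ.2 (redP D c hc (f i μ.1)) ≠ 0 → key μ ≤ key (μ0 i))
    (hcover : ∀ μ ∈ leads D ht N, ∃ i, (μ0 i).1 = μ.1 ∧ (μ0 i).2 ≤ μ.2)
    (hnt : Nontrivial (R ⧸ Ideal.span {c}))
    {e : ℕ} (x : Fin s → MvPolynomial (Fin m) B) (hx : ∀ j, (x j).IsHomogeneous e) :
    ∃ g : ι → MvPolynomial (Fin m) B, IsMult ef e g ∧ ∀ μ, ¬ Bad D ht N c hc (x - ∑ i, g i • f i) μ := by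
  classical
  have hzero : ∀ x : Fin s → MvPolynomial (Fin m) B, (∀ μ, ¬ Bad D ht N c hc x μ) →
      ∃ g : ι → MvPolynomial (Fin m) B, IsMult ef e g ∧ ∀ μ, ¬ Bad D ht N c hc (x - ∑ i, g i • f i) μ := fun x h =>
    ⟨fun _ => 0, fun i β hβ => absurd (coeff_zero β) hβ, by simpa using h⟩
  have hexmax : ∀ x : Fin s → MvPolynomial (Fin m) B, (∃ μ, Bad D ht N c hc x μ) →
      ∃ μ, Bad D ht N c hc x μ ∧ ∀ μ', Bad D ht N c hc x μ' → key μ' ≤ key μ := fun x ⟨μ₁, h₁⟩ => by
    let S : Finset (Fin s × (𝕊 →₀ ℕ)) :=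
      (Finset.univ.biUnion fun j => (redP D c hc (x j)).support.image (Prod.mk j)).filter (Bad D ht N c hc x)
    have hS : ∀ μ, μ ∈ S ↔ Bad D ht N c hc x μ := fun μ => by
      simp only [S, Finset.mem_filter, Finset.mem_biUnion, Finset.mem_image, Finset.mem_univ, true_and,
        mem_support_iff]
      exact ⟨fun h => h.2, fun h => ⟨⟨μ.1, μ.2, h.2, rfl⟩, h⟩⟩
    obtain ⟨μ, hμ, hmax⟩ := S.exists_max_image key ⟨μ₁, (hS _).mpr h₁⟩
    exact ⟨μ, (hS μ).mp hμ, fun μ' h => hmax μ' ((hS μ').mpr h)⟩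
  suffices H : ∀ (k : (MonomialOrder.lex (σ := Fin (m + n))).syn ×ₗ Fin s) (x : Fin s → MvPolynomial (Fin m) B),
      (∀ j, (x j).IsHomogeneous e) → (∀ μ, Bad D ht N c hc x μ → key μ ≤ k) →
      ∃ g : ι → MvPolynomial (Fin m) B, IsMult ef e g ∧ ∀ μ, ¬ Bad D ht N c hc (x - ∑ i, g i • f i) μ by
    by_cases h : ∃ μ, Bad D ht N c hc x μ
    · obtain ⟨μ, -, hmax⟩ := hexmax x h
      exact H _ x hx hmax
    · exact hzero x fun μ hμ => h ⟨μ, hμ⟩
  intro k
  induction k using WellFoundedLT.induction with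
  | ind k ih =>
    intro x hx hk
    by_cases h : ∃ μ, Bad D ht N c hc x μ
    · obtain ⟨μ, hμ, hmax⟩ := hexmax x h
      obtain ⟨g₀, hg₀, hlt⟩ := exists_step D ht N hc μ0 f ef hfhom hunit hfle hcover hnt hx hμ hmax
      have hx' : ∀ j, ((x - ∑ i, g₀ i • f i) j).IsHomogeneous e := fun j =>
        (hx j).sub (isHomogeneous_comb f ef hg₀ hfhom j)
      by_cases h' : ∃ μ', Bad D ht N c hc (x - ∑ i, g₀ i • f i) μ'
      · obtain ⟨μ', hμ', hmax'⟩ := hexmax _ h'
        obtain ⟨g, hg, hgood⟩ := ih (key μ') ((hlt μ' hμ').trans_le (hk μ hμ)) _ hx' hmax'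
        refine ⟨g₀ + g, fun i β hβ => ?_, fun ν => ?_⟩
        · by_cases h0 : coeff β (g₀ i) = 0
          · exact hg i β (fun h1 => hβ (by rw [Pi.add_apply, coeff_add, h0, h1, add_zero]))
          · exact hg₀ i β h0
        · have h1 : (x - ∑ i, (g₀ + g) i • f i) = (x - ∑ i, g₀ i • f i) - ∑ i, g i • f i := by
            simp only [Pi.add_apply, add_smul, Finset.sum_add_distrib, sub_add_eq_sub_sub]
          rw [h1]
          exact hgood ν
      · exact ⟨g₀, hg₀, fun ν hν => h' ⟨ν, hν⟩⟩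
    · exact hzero x fun μ hμ => h ⟨μ, hμ⟩

end Division

/-- An element without monomials among the leading ones is divisible by `c` inside `N`. -/
theorem exists_eq_smul_of_not_bad [IsScalarTower R (MvPolynomial (Fin m) B) (Fin s → MvPolynomial (Fin m) B)]
    {c : R} (hc : t ∈ Ideal.span {c}) (hc0 : c ≠ 0) (hcm : c ∈ maximalIdeal R)
    (hsat : ∀ (d : R) (x : Fin s → MvPolynomial (Fin m) B), d ≠ 0 → d • x ∈ N → x ∈ N)
    {e : ℕ} {x : Fin s → MvPolynomial (Fin m) B} (hxN : x ∈ N) (hx : ∀ j, (x j).IsHomogeneous e)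
    (hgood : ∀ μ, ¬ Bad D ht N c hc x μ) : ∃ r ∈ N, (∀ j, (r j).IsHomogeneous e) ∧ x = c • r := by
  classical
  have hcomp : ∀ (d : R) (y : Fin s → MvPolynomial (Fin m) B), d ≠ 0 → d • y = x →
      (fun j => homogeneousComponent e (y j)) ∈ N ∧ d • (fun j => homogeneousComponent e (y j)) = x := by
    intro d y hd hy
    have h : d • (fun j => homogeneousComponent e (y j)) = x := funext fun j => by
      show d • homogeneousComponent e (y j) = x j
      rw [Algebra.smul_def, IsScalarTower.algebraMap_apply R B (MvPolynomial (Fin m) B), MvPolynomial.algebraMap_eq,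
        ← homogeneousComponent_C_mul, ← MvPolynomial.algebraMap_eq,
        ← IsScalarTower.algebraMap_apply R B (MvPolynomial (Fin m) B), ← Algebra.smul_def,
        show d • y j = x j from congrFun hy j, homogeneousComponent_of_mem (hx j), if_pos rfl]
    exact ⟨hsat d _ hd (h.symm ▸ hxN), h⟩
  choose p y hp using fun j => exists_lift_congr D t (Ideal.subset_span rfl) (x j)
  by_cases hall : ∀ j γ, c ∣ coeff γ (p j)
  · have h0 : ∀ j, redP D c hc (x j) = 0 := fun j => MvPolynomial.ext _ _ fun γ => by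
      rw [hp j, redP_eq, coeff_map, coeff_zero, Ideal.Quotient.eq_zero_iff_mem, Ideal.mem_span_singleton]
      exact hall j γ
    choose r hr using fun j => exists_eq_smul_of_redP_eq_zero D c hc (x j) (h0 j)
    obtain ⟨h1, h2⟩ := hcomp c r hc0 (funext fun j => (hr j).symm)
    exact ⟨_, h1, fun j => homogeneousComponent_isHomogeneous e _, h2.symm⟩
  exfalso
  push_neg at hall
  obtain ⟨j₁, γ₁, h₁⟩ := hall
  let A : Finset R := insert c (Finset.univ.biUnion fun j => (p j).support.image fun γ => coeff γ (p j))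
  obtain ⟨d, hdA, hdvd⟩ := exists_mem_forall_dvd A ⟨c, Finset.mem_insert_self _ _⟩
  have hdvd' : ∀ j γ, d ∣ coeff γ (p j) := fun j γ => by
    by_cases h : coeff γ (p j) = 0
    · rw [h]; exact dvd_zero d
    · refine hdvd _ (Finset.mem_insert_of_mem ?_)
      simp only [Finset.mem_biUnion, Finset.mem_image, Finset.mem_univ, true_and]
      exact ⟨j, γ, mem_support_iff.mpr h, rfl⟩
  obtain ⟨j₀, γ₀, hd⟩ : ∃ j γ, coeff γ (p j) = d := by
    rcases Finset.mem_insert.mp hdA with rfl | h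
    · exact absurd (hdvd' j₁ γ₁) h₁
    · simp only [Finset.mem_biUnion, Finset.mem_image, Finset.mem_univ, true_and] at h
      obtain ⟨j, γ, -, h⟩ := h
      exact ⟨j, γ, h⟩
  obtain ⟨d', hd'⟩ := hdvd c (Finset.mem_insert_self _ _)
  have hncd : ¬ c ∣ d := fun h => h₁ (h.trans (hdvd' j₁ γ₁))
  have hd0 : d ≠ 0 := fun h => hncd (by rw [h]; exact dvd_zero c)
  have hd'm : d' ∈ maximalIdeal R := by
    rw [mem_maximalIdeal, mem_nonunits_iff]
    intro h
    exact hncd (by rw [hd']; exact (IsUnit.mul_right_dvd h).mpr dvd_rfl)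
  obtain ⟨c', hc'⟩ := Ideal.mem_span_singleton.mp hc
  choose p' hp' using fun j => (C_dvd_iff_dvd_coeff d (p j)).mpr (hdvd' j)
  let z : Fin s → MvPolynomial (Fin m) B := fun j => liftP D (p' j) + (d' * c') • y j
  have hz : d • z = x := funext fun j => by
    show d • (liftP D (p' j) + (d' * c') • y j) = x j
    rw [smul_add, smul_smul, ← mul_assoc, ← hd', ← hc', ← liftP_smul, smul_eq_C_mul, ← hp' j]
    exact (hp j).symm
  obtain ⟨hwN, hw⟩ := hcomp d z hd0 hz
  have hzk : ∀ j, redk D ht (z j) = map (Ideal.Quotient.mk (maximalIdeal R)) (p' j) := fun j =>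
    redk_eq D ht _ _ (Ideal.mul_mem_right _ _ hd'm)
  have hne : (fun j => redk D ht (homogeneousComponent e (z j))) ≠ 0 := fun h => by
    have h1 : coeff γ₀ (redk D ht (homogeneousComponent e (z j₀))) = 0 := by
      rw [show redk D ht (homogeneousComponent e (z j₀)) = 0 from congrFun h j₀, coeff_zero]
    rw [coeff_redk_homogeneousComponent, if_pos, hzk, coeff_map] at h1
    · have h2 : coeff γ₀ (p' j₀) = 1 := by
        have h3 := congrArg (coeff γ₀) (hp' j₀)
        rw [hd, coeff_C_mul] at h3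
        exact (mul_left_cancel₀ hd0 ((mul_one d).trans h3)).symm
      rw [h2, map_one] at h1
      exact one_ne_zero h1
    · refine degL_eq_of_coeff_ne_zero D (c := c) (hc := hc) (hx j₀) ?_
      rw [hp j₀, redP_eq, coeff_map, hd, Ne, Ideal.Quotient.eq_zero_iff_mem, Ideal.mem_span_singleton]
      exact hncd
  obtain ⟨⟨j, γ⟩, hμ, hμmax⟩ := exists_leading _ hne
  refine hgood (j, γ) ⟨⟨_, hwN, e, fun j => homogeneousComponent_isHomogeneous e _, hμ, hμmax⟩, ?_⟩
  simp only at hμ ⊢
  rw [coeff_redk_homogeneousComponent] at hμ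
  split_ifs at hμ with hdg
  · rw [hzk, coeff_map, Ne, Ideal.Quotient.eq_zero_iff_mem, mem_maximalIdeal, mem_nonunits_iff, not_not] at hμ
    rw [hp j, redP_eq, coeff_map, hp' j, coeff_C_mul, Ne, Ideal.Quotient.eq_zero_iff_mem, Ideal.mem_span_singleton]
    exact fun h => hncd ((IsUnit.dvd_mul_right hμ).mp h)
  · exact absurd rfl hμ

set_option synthInstance.maxHeartbeats 100000 in
include D ht in
/-- Saturated submodules: finitely many elements generate all homogeneous elements. -/
theorem exists_finite_generating (ht0 : t ≠ 0)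
    (hsat : ∀ (d : R) (x : Fin s → MvPolynomial (Fin m) B), d ≠ 0 → d • x ∈ N → x ∈ N) :
    ∃ S : Finset (Fin s → MvPolynomial (Fin m) B), (∀ x ∈ S, x ∈ N) ∧
      ∀ (e : ℕ) (x : Fin s → MvPolynomial (Fin m) B), x ∈ N → (∀ j, (x j).IsHomogeneous e) →
        x ∈ Submodule.span (MvPolynomial (Fin m) B) (S : Set (Fin s → MvPolynomial (Fin m) B)) := by
  classical
  obtain ⟨T, hTL, hT⟩ := exists_minimal_leads D ht N
  choose f hfN ef hfhom hflead hfmax using fun i : T => hTL i i.2
  choose p y hp using fun (i : T) (j : Fin s) => exists_lift_congr D t (Ideal.subset_span rfl) (f i j)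
  let coeffs : Finset R := insert t ((Finset.univ.biUnion fun i : T => Finset.univ.biUnion fun j : Fin s =>
    (p i j).support.image fun γ => coeff γ (p i j)).filter fun a => a ∈ maximalIdeal R)
  obtain ⟨c, hcS, hcdvd⟩ := exists_mem_forall_dvd coeffs ⟨t, Finset.mem_insert_self _ _⟩
  have hcm : c ∈ maximalIdeal R := by
    rcases Finset.mem_insert.mp hcS with rfl | h
    · exact ht
    · exact (Finset.mem_filter.mp h).2
  have hc : t ∈ Ideal.span {c} := Ideal.mem_span_singleton.mpr (hcdvd t (Finset.mem_insert_self _ _))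
  have hc0 : c ≠ 0 := fun h => ht0 (by rw [h, Ideal.mem_span_singleton, zero_dvd_iff] at hc; exact hc)
  have hnt : Nontrivial (R ⧸ Ideal.span {c}) := Ideal.Quotient.nontrivial_iff.mpr
    (ne_top_of_le_ne_top (maximalIdeal.isMaximal R).ne_top ((Ideal.span_singleton_le_iff_mem _).mpr hcm))
  have hsupp : ∀ i j γ, coeff γ (redk D ht (f i j)) = 0 → coeff γ (redP D c hc (f i j)) = 0 := fun i j γ h => by
    rw [hp i j, redk_eq D ht _ _ ht, coeff_map, Ideal.Quotient.eq_zero_iff_mem] at h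
    rw [hp i j, redP_eq, coeff_map, Ideal.Quotient.eq_zero_iff_mem, Ideal.mem_span_singleton]
    by_cases h0 : coeff γ (p i j) = 0
    · rw [h0]; exact dvd_zero c
    · refine hcdvd _ (Finset.mem_insert_of_mem (Finset.mem_filter.mpr ⟨?_, h⟩))
      simp only [Finset.mem_biUnion, Finset.mem_image, Finset.mem_univ, true_and]
      exact ⟨i, j, γ, mem_support_iff.mpr h0, rfl⟩
  have hunit : ∀ i : T, IsUnit (coeff i.1.2 (redP D c hc (f i i.1.1))) := fun i => by
    have h := hflead i
    rw [hp i i.1.1, redk_eq D ht _ _ ht, coeff_map, Ne, Ideal.Quotient.eq_zero_iff_mem, mem_maximalIdeal,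
      mem_nonunits_iff, not_not] at h
    rw [hp i i.1.1, redP_eq, coeff_map]
    exact h.map _
  have hfle : ∀ (i : T) μ, coeff μ.2 (redP D c hc (f i μ.1)) ≠ 0 → key μ ≤ key i.1 := fun i μ h =>
    hfmax i μ fun h0 => h (hsupp i _ _ h0)
  have hcover : ∀ μ ∈ leads D ht N, ∃ i : T, i.1.1 = μ.1 ∧ i.1.2 ≤ μ.2 := fun μ h => by
    obtain ⟨μ', h1, h2⟩ := hT μ h
    exact ⟨⟨μ', h1⟩, h2⟩
  refine ⟨Finset.univ.image f, fun x hx => ?_, fun e x hxN hx => ?_⟩
  · simp only [Finset.mem_image, Finset.mem_univ, true_and] at hx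
    obtain ⟨i, rfl⟩ := hx
    exact hfN i
  -- one round
  have hround : ∀ w : {w : Fin s → MvPolynomial (Fin m) B // w ∈ N ∧ ∀ j, (w j).IsHomogeneous e},
      ∃ (g : T → MvPolynomial (Fin m) B) (r : {w : Fin s → MvPolynomial (Fin m) B //
        w ∈ N ∧ ∀ j, (w j).IsHomogeneous e}), IsMult ef e g ∧ w.1 = ∑ i, g i • f i + c • r.1 := fun w => by
    obtain ⟨g, hg, hgood⟩ := exists_division D ht N hc (fun i : T => i.1) f ef hfhom hunit hfle hcover hnt w.1 w.2.2
    obtain ⟨r, hrN, hr, hr'⟩ := exists_eq_smul_of_not_bad D ht N hc hc0 hcm hsat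
      (N.sub_mem w.2.1 (sum_mem fun i _ => N.smul_mem _ (hfN i)))
      (fun j => (w.2.2 j).sub (isHomogeneous_comb f ef hg hfhom j)) hgood
    exact ⟨g, ⟨r, hrN, hr⟩, hg, by rw [← hr', add_sub_cancel]⟩
  choose g r hg hgr using hround
  let w : ℕ → {w : Fin s → MvPolynomial (Fin m) B // w ∈ N ∧ ∀ j, (w j).IsHomogeneous e} :=
    fun k => Nat.rec ⟨x, hxN, hx⟩ (fun _ a => r a) k
  let G : ℕ → T → MvPolynomial (Fin m) B := fun k i => ∑ l ∈ Finset.range k, c ^ l • g (w l) i
  have hG : ∀ k, x = ∑ i, G k i • f i + c ^ k • (w k).1 := fun k => by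
    induction k with
    | zero => simp [G, w]
    | succ k ih =>
      have h1 : ∑ i, G (k + 1) i • f i = ∑ i, G k i • f i + c ^ k • ∑ i, g (w k) i • f i := by
        rw [Finset.smul_sum, ← Finset.sum_add_distrib]
        refine Finset.sum_congr rfl fun i _ => ?_
        show (∑ l ∈ Finset.range (k + 1), c ^ l • g (w l) i) • f i = _
        rw [Finset.sum_range_succ, add_smul, smul_assoc]
      have h2 : (w (k + 1)).1 = (r (w k)).1 := rfl
      conv_lhs => rw [ih, hgr (w k)]
      rw [h1, h2, pow_succ, mul_smul, add_assoc, ← smul_add]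
  haveI := D.complete c hc hcm
  let I : Ideal B := Ideal.span {algebraMap R B c}
  have hI : ∀ k, (I ^ k • ⊤ : Submodule B B) = Ideal.span {algebraMap R B c ^ k} := fun k => by
    rw [smul_eq_mul, Ideal.mul_top, Ideal.span_singleton_pow]
  have hlim : ∀ (i : T) (β : Fin m →₀ ℕ), ∃ L : B, ∀ k, coeff β (G k i) - L ∈ Ideal.span {algebraMap R B c ^ k} :=
    fun i β => by
      obtain ⟨L, hL⟩ := IsPrecomplete.prec (I := I) (M := B) inferInstance (f := fun k => coeff β (G k i)) (by
        intro a b hab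
        rw [SModEq.sub_mem, hI]
        simp only [G, coeff_sum, coeff_smul]
        rw [← Finset.sum_range_add_sum_Ico _ hab, sub_add_cancel_left]
        refine neg_mem (sum_mem fun l hl => ?_)
        rw [Algebra.smul_def, map_pow]
        exact Ideal.mul_mem_right _ _ (Ideal.mem_span_singleton.mpr (pow_dvd_pow _ (Finset.mem_Ico.mp hl).1)))
      exact ⟨L, fun k => by rw [← hI, ← SModEq.sub_mem]; exact hL k⟩
  choose L hL using hlim
  let Q : T → MvPolynomial (Fin m) B := fun i =>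
    ∑ β ∈ (Finsupp.finite_of_degree_le (σ := Fin m) e).toFinset.filter (fun β => Finsupp.degree β + ef i = e),
      monomial β (L i β)
  have hQ : ∀ i β k, coeff β (G k i) - coeff β (Q i) ∈ Ideal.span {algebraMap R B c ^ k} := fun i β k => by
    simp only [Q, coeff_sum, coeff_monomial, Finset.sum_ite_eq', Finset.mem_filter, Set.Finite.mem_toFinset,
      Set.mem_setOf_eq]
    split_ifs with h
    · exact hL i β k
    · rw [sub_zero]
      simp only [G, coeff_sum, coeff_smul]
      refine sum_mem fun l _ => ?_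
      by_contra h0
      have h1 : coeff β (g (w l) i) ≠ 0 := fun h1 => h0 (by rw [h1, smul_zero]; exact zero_mem _)
      have h2 := hg (w l) i β h1
      exact h ⟨by omega, h2⟩
  have hfinal : x = ∑ i, Q i • f i := by
    funext j
    ext β
    rw [← sub_eq_zero]
    refine IsHausdorff.haus (I := I) (M := B) inferInstance _ fun k => ?_
    rw [SModEq.zero, hI]
    let φ : MvPolynomial (Fin m) B →+* MvPolynomial (Fin m) (B ⧸ Ideal.span {algebraMap R B c ^ k}) :=
      MvPolynomial.map (Ideal.Quotient.mk _)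
    have h1 : φ (x j) = φ ((∑ i, Q i • f i) j) := by
      have h2 := congrFun (hG k) j
      simp only [Pi.add_apply, Pi.smul_apply, Finset.sum_apply, smul_eq_mul] at h2
      rw [h2, map_add, map_sum]
      simp only [Finset.sum_apply, Pi.smul_apply, smul_eq_mul, map_sum, map_mul]
      have hQ' : ∀ i, φ (G k i) = φ (Q i) := fun i => MvPolynomial.ext _ _ fun β' => by
        simp only [φ, coeff_map]
        exact Ideal.Quotient.eq.mpr (hQ i β' k)
      simp only [hQ']
      refine add_eq_left.mpr (MvPolynomial.ext _ _ fun β' => ?_)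
      simp only [φ, coeff_map, coeff_smul, coeff_zero, Ideal.Quotient.eq_zero_iff_mem]
      rw [Algebra.smul_def, map_pow]
      exact Ideal.mul_mem_right _ _ (Ideal.mem_span_singleton_self _)
    have h3 := congrArg (coeff β) h1
    simp only [φ, coeff_map] at h3
    exact Ideal.Quotient.eq.mp h3
  rw [hfinal]
  exact sum_mem fun i _ => Submodule.smul_mem _ _ (Submodule.subset_span (by simp))

end Groth.Agent.Frg7
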