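import Groth.Agent.Frg7.Coherent
import Groth.Agent.Frg7.Completion

/-!
# Algebras topologically of finite presentation and their truncations
-/

universe u

noncomputable section

namespace Groth.Agent.Frg7

open AdicRing

variable {R : Type u} [CommRing R] {I : Ideal R}

/-- Restricted power series are congruent to polynomials. -/
theorem exists_sub_mem_map_pow (hI : I.FG) {n : ℕ} (b : RPow R I n) (k : ℕ) :
    ∃ p : MvPolynomial (Fin n) R, b - algebraMap _ (RPow R I n) p ∈ (I ^ k).map (algebraMap R (RPow R I n)) := by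
  obtain ⟨p, hp⟩ := Adic7.exists_sub_algebraMap_mem _ (hI.map (MvPolynomial.C : R →+* MvPolynomial (Fin n) R)) b k
  refine ⟨p, ?_⟩
  rw [Ideal.map_pow]
  rwa [Ideal.map_map] at hp

/-- A polynomial divisible by `I ^ k` among restricted power series is so among polynomials. -/
theorem mem_map_pow_of_algebraMap_mem {n k : ℕ} {p : MvPolynomial (Fin n) R}
    (hp : algebraMap _ (RPow R I n) p ∈ (I ^ k).map (algebraMap R (RPow R I n))) :
    p ∈ (I ^ k).map (MvPolynomial.C : R →+* MvPolynomial (Fin n) R) := by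
  let J := I.map (MvPolynomial.C : R →+* MvPolynomial (Fin n) R)
  have hle : (I ^ k).map (algebraMap R (RPow R I n)) ≤ RingHom.ker (AdicCompletion.evalₐ J k).toRingHom := by
    rw [Ideal.map_le_iff_le_comap]
    intro r hr
    show AdicCompletion.evalₐ J k (algebraMap R (RPow R I n) r) = 0
    rw [IsScalarTower.algebraMap_apply R (MvPolynomial (Fin n) R) (RPow R I n), AlgHom.commutes,
      Ideal.Quotient.algebraMap_eq, Ideal.Quotient.eq_zero_iff_mem, ← Ideal.map_pow]
    exact Ideal.mem_map_of_mem _ hr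
  have h1 : AdicCompletion.evalₐ J k (algebraMap _ (RPow R I n) p) = 0 := hle hp
  rw [AlgHom.commutes, Ideal.Quotient.algebraMap_eq, Ideal.Quotient.eq_zero_iff_mem, ← Ideal.map_pow] at h1
  exact h1

variable {A : Type u} [CommRing A] [Algebra R A]

theorem quotientMap_finitePresentation_iff (hI : I.FG) (k : ℕ) :
    (Ideal.quotientMap ((I ^ k).map (algebraMap R A)) (algebraMap R A) Ideal.le_comap_map).FinitePresentation ↔
      Algebra.FinitePresentation R (A ⧸ (I ^ k).map (algebraMap R A)) := by
  set g := Ideal.quotientMap ((I ^ k).map (algebraMap R A)) (algebraMap R A) Ideal.le_comap_map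
  have hc : g.comp (Ideal.Quotient.mk (I ^ k)) = algebraMap R (A ⧸ (I ^ k).map (algebraMap R A)) :=
    RingHom.ext fun r => rfl
  have hmk : (Ideal.Quotient.mk (I ^ k)).FinitePresentation :=
    RingHom.FinitePresentation.of_surjective _ Ideal.Quotient.mk_surjective (by rw [Ideal.mk_ker]; exact hI.pow)
  rw [← RingHom.finitePresentation_algebraMap, ← hc]
  exact ⟨fun h => h.comp hmk, fun h => RingHom.FinitePresentation.of_comp_finiteType _ h (RingHom.FiniteType.of_finitePresentation hmk)⟩

/-- Truncations of algebras topologically of finite presentation are finitely presented. -/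
theorem finitePresentation_trunc (hI : I.FG) (hA : TopFinitePresentation R I A) (k : ℕ) :
    Algebra.FinitePresentation R (A ⧸ (I ^ k).map (algebraMap R A)) := by
  classical
  obtain ⟨n, φ, hφ, S, hS⟩ := hA
  let g : MvPolynomial (Fin n) R →ₐ[R] A ⧸ (I ^ k).map (algebraMap R A) :=
    (Ideal.Quotient.mkₐ R _).comp (φ.comp (IsScalarTower.toAlgHom R (MvPolynomial (Fin n) R) (RPow R I n)))
  have hφI : ((I ^ k).map (algebraMap R (RPow R I n))).map φ.toRingHom = (I ^ k).map (algebraMap R A) := by
    rw [Ideal.map_map]; exact congrArg (Ideal.map · (I ^ k)) φ.comp_algebraMap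
  have hg : Function.Surjective g := fun y => by
    obtain ⟨a, rfl⟩ := Ideal.Quotient.mk_surjective y
    obtain ⟨b, rfl⟩ := hφ a
    obtain ⟨p, hp⟩ := exists_sub_mem_map_pow hI b k
    refine ⟨p, (Ideal.Quotient.eq.mpr ?_).symm⟩
    rw [← hφI]
    have := Ideal.mem_map_of_mem φ.toRingHom hp
    simpa using this
  choose l hl using fun x : S => exists_sub_mem_map_pow hI (x : RPow R I n) k
  refine Algebra.FinitePresentation.of_surjective (A := MvPolynomial (Fin n) R) hg ?_
  have hker : RingHom.ker g.toRingHom =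
      Ideal.span (Set.range l) ⊔ (I ^ k).map (MvPolynomial.C : R →+* MvPolynomial (Fin n) R) := by
    refine le_antisymm (fun p hp => ?_) (sup_le (Ideal.span_le.mpr ?_) ?_)
    · have h1 : φ (algebraMap _ (RPow R I n) p) ∈ (I ^ k).map (algebraMap R A) := Ideal.Quotient.eq_zero_iff_mem.mp hp
      rw [← hφI, Ideal.mem_map_iff_of_surjective φ.toRingHom hφ] at h1
      obtain ⟨e, he, he'⟩ := h1
      have hk1 : algebraMap _ (RPow R I n) p - e ∈ Ideal.span (S : Set (RPow R I n)) := by
        rw [show Ideal.span (S : Set (RPow R I n)) = RingHom.ker φ.toRingHom from hS, RingHom.mem_ker, map_sub, he']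
        exact sub_self _
      have h2 : algebraMap _ (RPow R I n) p ∈ (Ideal.span (Set.range l)).map (algebraMap _ (RPow R I n)) ⊔
          (I ^ k).map (algebraMap R (RPow R I n)) := by
        rw [← sub_add_cancel (algebraMap _ (RPow R I n) p) e]
        refine add_mem ((Ideal.span_le.mpr fun x hx => ?_) hk1) (Ideal.mem_sup_right he)
        rw [SetLike.mem_coe, ← sub_add_cancel x (algebraMap _ (RPow R I n) (l ⟨x, hx⟩))]
        exact add_mem (Ideal.mem_sup_right (hl ⟨x, hx⟩))
          (Ideal.mem_sup_left (Ideal.mem_map_of_mem _ (Ideal.subset_span ⟨_, rfl⟩)))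
      obtain ⟨a, ha, e', he2, hsum⟩ := Submodule.mem_sup.mp h2
      have : ∃ q ∈ Ideal.span (Set.range l), a - algebraMap _ (RPow R I n) q ∈ (I ^ k).map (algebraMap R (RPow R I n)) := by
        clear hsum h2
        induction ha using Submodule.span_induction with
        | mem a ha =>
          obtain ⟨q, hq, rfl⟩ := ha
          exact ⟨q, hq, by rw [sub_self]; exact zero_mem _⟩
        | zero => exact ⟨0, zero_mem _, by rw [map_zero, sub_self]; exact zero_mem _⟩
        | add a b _ _ ha hb =>
          obtain ⟨q, hq, hqa⟩ := ha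
          obtain ⟨q', hq', hqb⟩ := hb
          exact ⟨q + q', add_mem hq hq', by rw [map_add, add_sub_add_comm]; exact add_mem hqa hqb⟩
        | smul c a _ ha =>
          obtain ⟨q, hq, hqa⟩ := ha
          obtain ⟨r, hr⟩ := exists_sub_mem_map_pow hI c k
          refine ⟨r * q, Ideal.mul_mem_left _ r hq, ?_⟩
          rw [smul_eq_mul, map_mul, show c * a - algebraMap _ (RPow R I n) r * algebraMap _ (RPow R I n) q =
            c * (a - algebraMap _ (RPow R I n) q) + algebraMap _ (RPow R I n) q * (c - algebraMap _ (RPow R I n) r) by ring]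
          exact add_mem (Ideal.mul_mem_left _ _ hqa) (Ideal.mul_mem_left _ _ hr)
      obtain ⟨q, hq, hqa⟩ := this
      rw [← sub_add_cancel p q, add_comm]
      refine add_mem (Ideal.mem_sup_left hq) (Ideal.mem_sup_right (mem_map_pow_of_algebraMap_mem ?_))
      rw [map_sub, ← hsum, add_sub_right_comm]
      exact add_mem hqa he2
    · rintro _ ⟨x, rfl⟩
      refine Ideal.Quotient.eq_zero_iff_mem.mpr ?_
      have hx : φ (x : RPow R I n) = 0 := (hS ▸ Submodule.subset_span x.2 : (x : RPow R I n) ∈ RingHom.ker φ.toRingHom)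
      have := Ideal.mem_map_of_mem φ.toRingHom (hl x)
      rw [hφI, AlgHom.toRingHom_eq_coe, RingHom.coe_coe, map_sub, hx, zero_sub, neg_mem_iff] at this
      exact this
    · rw [Ideal.map_le_iff_le_comap]
      intro r hr
      show g (MvPolynomial.C r) = 0
      rw [← MvPolynomial.algebraMap_eq, AlgHom.commutes]
      exact Ideal.Quotient.eq_zero_iff_mem.mpr (Ideal.mem_map_of_mem _ hr)
  rw [hker]
  exact Submodule.FG.sup (Submodule.fg_span (Set.finite_range l)) ((hI.pow).map _)

/-- A complete algebra of finite type modulo the ideal is topologically of finite type. -/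
theorem topFiniteType_of_finiteType (hR : IsBase R I) [IsAdicComplete (I.map (algebraMap R A)) A]
    [Algebra.FiniteType R (A ⧸ I.map (algebraMap R A))] : TopFiniteType R I A := by
  obtain ⟨n, g, hg⟩ := Algebra.FiniteType.iff_quotient_mvPolynomial''.mp
    ‹Algebra.FiniteType R (A ⧸ I.map (algebraMap R A))›
  choose b hb using fun i => Ideal.Quotient.mk_surjective (g (MvPolynomial.X i))
  let f : MvPolynomial (Fin n) R →ₐ[R] A := MvPolynomial.aeval b
  have hfg : (Ideal.Quotient.mkₐ R (I.map (algebraMap R A))).comp f = g :=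
    MvPolynomial.algHom_ext fun i => by simpa [f] using hb i
  obtain ⟨F, hF⟩ := Adic7.exists_lift_completion (I.map (MvPolynomial.C : R →+* MvPolynomial (Fin n) R))
    (I.map (algebraMap R A)) f (by
      exact le_of_eq ((Ideal.map_map (I := I) MvPolynomial.C f.toRingHom).trans
        (congrArg (Ideal.map · I) (RingHom.ext fun r => by simp [f]))))
  refine ⟨n, F, ?_⟩
  haveI : IsPrecomplete I (RPow R I n) :=
    IsPrecomplete.map_algebraMap_iff.mp (complete_rPow hR n).toIsPrecomplete
  haveI : IsHausdorff I A := IsHausdorff.map_algebraMap_iff.mp ‹IsAdicComplete (I.map (algebraMap R A)) A›.toIsHausdorff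
  refine surjective_of_mkQ_comp_surjective (I := I) (f := F.toLinearMap) fun y => ?_
  obtain ⟨a, rfl⟩ := Submodule.mkQ_surjective _ y
  obtain ⟨p, hp⟩ := hg (Ideal.Quotient.mk _ a)
  refine ⟨algebraMap _ _ p, (Submodule.Quotient.eq _).mpr ?_⟩
  rw [Ideal.smul_top_eq_map, Submodule.restrictScalars_mem]
  show F (algebraMap _ _ p) - a ∈ _
  rw [hF, ← Ideal.Quotient.eq, ← hp, ← hfg]
  rfl

/-- A complete algebra with finitely presented truncations is topologically of finite presentation. -/
theorem topFinitePresentation_of_trunc (hR : IsBase R I) [IsAdicComplete (I.map (algebraMap R A)) A]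
    (h : ∀ k, Algebra.FinitePresentation R (A ⧸ (I ^ (k + 1)).map (algebraMap R A))) :
    TopFinitePresentation R I A := by
  classical
  have hI := IsBase.fg hR
  haveI : Algebra.FiniteType R (A ⧸ I.map (algebraMap R A)) := by
    have h1 := h 0
    rw [zero_add, pow_one] at h1
    exact Algebra.FiniteType.of_finitePresentation
  obtain ⟨n, φ, hφ⟩ := topFiniteType_of_finiteType hR (A := A)
  refine ⟨n, φ, hφ, ?_⟩
  set K := RingHom.ker φ.toRingHom with hK
  obtain ⟨c, hc⟩ := (nice_rPow hR n).hasAR (RPow R I n) (K : Submodule (RPow R I n) (RPow R I n))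
  set 𝔟 := I.map (algebraMap R (RPow R I n)) with h𝔟
  haveI := h c
  let g : MvPolynomial (Fin n) R →ₐ[R] A ⧸ (I ^ (c + 1)).map (algebraMap R A) :=
    (Ideal.Quotient.mkₐ R _).comp (φ.comp (IsScalarTower.toAlgHom R (MvPolynomial (Fin n) R) (RPow R I n)))
  have hφI : ((I ^ (c + 1)).map (algebraMap R (RPow R I n))).map φ.toRingHom = (I ^ (c + 1)).map (algebraMap R A) := by
    rw [Ideal.map_map]; exact congrArg (Ideal.map · (I ^ (c + 1))) φ.comp_algebraMap
  have hg : Function.Surjective g := fun y => by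
    obtain ⟨a, rfl⟩ := Ideal.Quotient.mk_surjective y
    obtain ⟨b, rfl⟩ := hφ a
    obtain ⟨p, hp⟩ := exists_sub_mem_map_pow hI b (c + 1)
    refine ⟨p, (Ideal.Quotient.eq.mpr ?_).symm⟩
    rw [← hφI]
    have := Ideal.mem_map_of_mem φ.toRingHom hp
    simpa using this
  obtain ⟨S, hS⟩ := Algebra.FinitePresentation.ker_fG_of_surjective g hg
  have hdec : ∀ p : S, ∃ κ ∈ K, algebraMap _ (RPow R I n) (p : MvPolynomial (Fin n) R) - κ ∈
      (I ^ (c + 1)).map (algebraMap R (RPow R I n)) := fun p => by
    have h1 : φ (algebraMap _ (RPow R I n) (p : MvPolynomial (Fin n) R)) ∈ (I ^ (c + 1)).map (algebraMap R A) :=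
      Ideal.Quotient.eq_zero_iff_mem.mp (hS ▸ Submodule.subset_span p.2 : (p : MvPolynomial (Fin n) R) ∈ RingHom.ker g.toRingHom)
    rw [← hφI, Ideal.mem_map_iff_of_surjective φ.toRingHom hφ] at h1
    obtain ⟨e, he, he'⟩ := h1
    refine ⟨algebraMap _ _ (p : MvPolynomial (Fin n) R) - e, ?_, by rwa [sub_sub_cancel]⟩
    rw [hK, RingHom.mem_ker, map_sub, he']
    exact sub_self _
  choose κ hκ hκ' using hdec
  set K' : Ideal (RPow R I n) := Ideal.span (Set.range κ)
  have hK'K : K' ≤ K := Ideal.span_le.mpr (Set.range_subset_iff.mpr hκ)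
  have h1 : ∀ x ∈ K, ∃ x' ∈ K', x - x' ∈ 𝔟 * K := by
    intro x hx
    obtain ⟨p, hp⟩ := exists_sub_mem_map_pow hI x (c + 1)
    have hpg : p ∈ RingHom.ker g.toRingHom := Ideal.Quotient.eq_zero_iff_mem.mpr (by
      have := Ideal.mem_map_of_mem φ.toRingHom hp
      rw [hφI, map_sub, show φ.toRingHom x = 0 from hx, zero_sub, neg_mem_iff] at this
      exact this)
    rw [← hS] at hpg
    have h2 : algebraMap _ (RPow R I n) p ∈ K' ⊔ (I ^ (c + 1)).map (algebraMap R (RPow R I n)) := by
      clear hp
      induction hpg using Submodule.span_induction with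
      | mem p hp =>
        rw [← add_sub_cancel (κ ⟨p, hp⟩) (algebraMap _ (RPow R I n) p)]
        exact add_mem (Ideal.mem_sup_left (Ideal.subset_span ⟨_, rfl⟩)) (Ideal.mem_sup_right (hκ' ⟨p, hp⟩))
      | zero => rw [map_zero]; exact zero_mem _
      | add a b _ _ ha hb => rw [map_add]; exact add_mem ha hb
      | smul r a _ ha => rw [smul_eq_mul, map_mul]; exact Ideal.mul_mem_left _ _ ha
    have h3 : x ∈ K' ⊔ (I ^ (c + 1)).map (algebraMap R (RPow R I n)) := by
      rw [← sub_add_cancel x (algebraMap _ (RPow R I n) p)]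
      exact add_mem (Ideal.mem_sup_right hp) h2
    obtain ⟨x', hx', e, he, rfl⟩ := Submodule.mem_sup.mp h3
    refine ⟨x', hx', ?_⟩
    rw [add_sub_cancel_left]
    have h4 := hc 1 ⟨by
      show e ∈ 𝔟 ^ (1 + c) • (⊤ : Ideal (RPow R I n))
      rwa [Ideal.smul_eq_mul, Ideal.mul_top, h𝔟, ← Ideal.map_pow, add_comm 1 c],
      (K.add_mem_iff_right (hK'K hx')).mp hx⟩
    rwa [pow_one, Ideal.smul_eq_mul] at h4
  have h5 : ∀ j, K ≤ K' ⊔ 𝔟 ^ j * K := by
    intro j
    induction j with
    | zero => rw [pow_zero, one_mul]; exact le_sup_right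
    | succ j ih =>
      refine ih.trans (sup_le le_sup_left ?_)
      rw [pow_succ, mul_assoc]
      calc 𝔟 ^ j * K ≤ 𝔟 ^ j * (K' ⊔ 𝔟 * K) := Ideal.mul_mono_right fun x hx => by
            obtain ⟨x', hx', h⟩ := h1 x hx
            exact Submodule.mem_sup.mpr ⟨x', hx', _, h, add_sub_cancel _ _⟩
        _ ≤ _ := by
            rw [Ideal.mul_sup]
            exact sup_le_sup_right Ideal.mul_le_right _
  have hle : K ≤ K' := by
    intro x hx
    haveI : IsHausdorff I (RPow R I n ⧸ K') :=
      (nice_rPow hR n).isHausdorff (le_jacobson hR ⟨n, AlgHom.id R _, Function.surjective_id⟩)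
    rw [← Ideal.Quotient.eq_zero_iff_mem]
    refine IsHausdorff.haus (I := I) ‹_› _ fun j => ?_
    rw [SModEq.zero, Ideal.smul_top_eq_map, Submodule.restrictScalars_mem]
    obtain ⟨a, ha, e, he, rfl⟩ := Submodule.mem_sup.mp (h5 j hx)
    rw [map_add, Ideal.Quotient.eq_zero_iff_mem.mpr ha, zero_add, IsScalarTower.algebraMap_eq R (RPow R I n),
      ← Ideal.map_map, Ideal.map_pow]
    exact Ideal.mem_map_of_mem _ (Ideal.mul_le_left he)
  rw [le_antisymm hle hK'K]
  exact Submodule.fg_span (Set.finite_range κ)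

end Groth.Agent.Frg7
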